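import Cfsg.Agent.J4NonLocal.Count

/-!
Words and certificates.
-/

set_option autoImplicit false
set_option maxRecDepth 8000

namespace Cfsg.Lib.J4NonLocal.MTwentyTwo

open Cfsg.Lib.J4NonLocal

/-- Entries. -/
def elevenEnt0 : List (ℕ × ℕ × ℕ) := [(0, 1, 1), (0, 3, 0), (0, 1, 2), (0, 3, 1), (0, 2, 1), (0, 4, 2), (0, 4, 3), (0, 2, 4), (0, 4, 0), (0, 2, 3), (0, 5, 0), (0, 0, 0), (0, 3, 4), (0, 1, 3), (0, 3, 3), (0, 1, 0), (0, 3, 2), (0, 1, 4), (0, 2, 0), (0, 4, 1), (0, 4, 4), (0, 2, 2)]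

/-- The plan. -/
def eleven : Plan :=
  { f := 0x947ccca81ea0951abd5eef268cd0
    w := 0x78e57311d8a3c2ce6f447ed4d57b
    fix := [[0, 1, 1, 0, 1, 1, 1], [1, 0, 1, 1, 1], [1, 1, 1, 1, 1, 0, 1], [1, 1, 1, 1, 1, 1, 1, 0], [1, 1, 1, 1, 0], [1, 0, 0, 1], [0, 1, 1, 1, 1, 0, 1], [1, 1, 0, 1, 1, 1, 1, 1, 1], [0, 0, 1, 0, 1], [0, 1, 1, 1, 1, 1, 1], [1, 0, 1, 1, 1, 1, 1, 1, 1, 1], [1, 1, 1, 1, 1, 1, 1], [1, 1, 0, 1, 1, 1, 1, 1], [1, 0, 0], [0, 1, 1, 1, 0], [0, 1, 0, 0, 1], [1, 1, 1, 1, 0, 1, 1], [1, 1, 1, 1], [1, 1, 1, 1, 1, 1, 1, 1, 1, 0], [0, 0, 0, 0, 0, 0, 0, 0, 0], [1, 0, 0, 0, 0], [0, 1], [1, 1, 1, 0, 1, 1, 1, 1], [1, 1, 1, 1, 1, 1, 1, 1], [0, 0, 0], [1, 0, 1, 1, 1, 1, 1, 1], [1, 0, 0, 0], [0, 0], [0, 1, 1, 1, 1, 1, 1, 1, 1], [0,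 1, 1, 0, 1, 1], [1, 1, 1, 1, 1, 1, 1, 1, 1], [1, 1, 0, 0, 1], [0, 0, 0, 0], [0, 1, 0, 1, 1, 1, 1, 1], [0, 1, 0, 1, 1, 1, 1, 1, 1, 1], [1, 1, 1, 1, 0, 1, 1, 1, 1], [0, 1, 1, 1], [0, 1, 1, 1, 1, 1, 1, 1, 1, 1], [1], [1, 1, 1, 1, 1, 1, 1, 0, 1, 1], [0, 1, 1, 0, 1, 1, 1, 1], [1, 1, 0, 1, 1, 1, 1], [1, 1, 1, 1, 1, 1, 1, 1, 0], [1, 1, 1, 1, 0, 1, 1, 1, 1, 1], [1, 1, 0, 1, 1, 1], [1, 1, 1, 0, 1], [0, 0, 0, 0, 0, 0, 0, 0], [0, 1, 1, 1, 1, 1], [1, 1, 1, 1, 1], [0, 1, 1, 1, 1], [1, 1, 0, 1, 1], [1, 1, 1, 0, 1, 1, 1, 1, 1, 1], [1, 1, 1, 1, 1, 0, 1, 1, 1], [], [1, 1, 1, 1, 1, 1], [1, 1, 1, 1, 1, 1, 0, 1, 1, 1], [1, 1, 1, 1, 0, 1], [1, 0, 1, 1, 0, 1], [1, 1, 1, 0, 1, 1], [1, 0, 1], [1, 0, 1, 1, 0], [1, 1, 1, 0, 1, 1, 1, 1, 1], [0, 1, 1], [0,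 0, 0, 0, 0, 0], [0, 0, 1, 0], [1, 1, 0], [0, 0, 0, 0, 0, 0, 0, 0, 0, 0], [1, 0, 1, 1, 1, 0], [0, 0, 1, 0, 0], [0], [1, 0, 1, 1], [1, 1, 1, 1, 0, 1, 1, 1], [1, 0, 1, 1, 0, 1, 1, 1, 1], [1, 0, 1, 1, 0, 1, 1], [1, 0, 1, 1, 1, 1], [0, 1, 1, 1, 1, 1, 1, 1], [0, 0, 1, 1], [1, 1, 0, 1], [0, 1, 1, 0, 1], [1, 1, 1, 1, 1, 0, 1, 1], [0, 1, 0, 1], [1, 1, 1, 1, 1, 0], [1, 0, 1, 1, 1, 1, 1], [1, 1, 0, 1, 1, 1, 1, 1, 1, 1], [1, 1, 1, 0, 0], [0, 1, 0, 0], [0, 1, 1, 0], [1, 1, 1, 1, 1, 1, 0], [1, 1, 0, 0], [1, 1, 1], [1, 1, 1, 1, 1, 0, 1, 1, 1, 1], [1, 1], [0, 1, 0], [0, 0, 1], [1, 0, 1, 1, 0, 1, 1, 1], [0, 1, 0, 1, 1], [1, 1, 1, 1, 1, 1, 1, 1, 0, 1], [0, 1, 0, 1, 1, 1, 1], [1, 1, 1, 1, 1, 1, 0, 1, 1], [0, 0, 0, 0, 0, 0, 0], [0, 1, 1, 1, 1, 0],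 [1, 1, 1, 1, 1, 1, 1, 0, 1], [0, 1, 0, 1, 1, 1, 1, 1, 1], [0, 1, 0, 1, 1, 1], [1, 0], [1, 1, 1, 1, 1, 1, 0, 1], [0, 0, 0, 0, 0], [1, 1, 1, 0], [1, 0, 1, 1, 1, 1, 1, 1, 1], [1, 1, 1, 0, 1, 1, 1]]
    lef := [[]]
    reps := [[], [6], [5], [5, 5], [5, 6], [6, 5]]
    rig := [[], [1], [1, 1], [1, 1, 1, 1], [1, 1, 1]]
    chunks := [(elevenEnt0, 0x10000000000000000000000000000)]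
    crt := [(1, ([2, 1000], 0x9259b575bd13653f8dd9b1f282e), ([2, 1000, 4], 0x7e25c84ee3d2f129b6678519d3e8), ([4, 1000, 2], 0x9170642e1282d487aaa4c7edb70a)), (2, ([1, 2, 1000, 4], 0x6735bc6fe12b33ec9d01fc001a52), ([1000, 0, 3], 0xfe5233414f048b34e784df64db36), ([4, 1000, 1], 0x6c01e2090f65074da63e71f2e9c0)), (3, ([3, 1000, 4, 0], 0xfda768e9d70e9dfa896d62b8e8b0), ([1, 1, 1000, 3], 0xdb1e66d1db7b6696bed27fc4ed22), ([1, 0, 4, 1000], 0x89c10a678c131ab8bfb0fb639a98)), (4, ([1, 1000, 3], 0x6f597fe0458b42c24024e23e556d), ([1000, 1000, 3], 0x82edad9b2e346e25278011d535ec), ([0, 1000, 2, 0], 0x36e38a8b17114fc3430a9b11ec42)), (5, ([2, 3, 1000, 0], 0xe802a2297dfbeaa8189157fe4d29), ([3, 1000, 4], 0x2548c7fa7ac44c45a776d9504316), ([3, 1000,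 2], 0x82e5bc365afbcf1b0187d6d7b13))] }

end Cfsg.Lib.J4NonLocal.MTwentyTwo
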