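import Cfsg.Agent.J4NonLocal.Count

/-!
Words and certificates.
-/

set_option autoImplicit false
set_option maxRecDepth 8000

namespace Cfsg.Lib.J4NonLocal.MTwentyTwo

open Cfsg.Lib.J4NonLocal

/-- Entries. -/
def sevenEnt0 : List (ℕ × ℕ × ℕ) := [(0, 3, 1), (0, 11, 2), (0, 9, 3), (0, 5, 0), (0, 6, 0), (0, 11, 0), (0, 4, 2), (0, 7, 0), (0, 6, 1), (0, 2, 3), (0, 8, 0), (0, 3, 2), (0, 3, 4), (0, 1, 3), (0, 12, 0), (0, 6, 3), (0, 8, 4), (0, 2, 1), (0, 3, 0), (0, 4, 0), (0, 11, 5), (0, 9, 2), (0, 9, 4), (0, 1, 0), (0, 4, 5), (0, 1, 1), (0, 2, 0), (0, 7, 4), (0, 4, 1), (0, 7, 3), (0, 2, 2), (0, 9, 1), (0, 1, 4), (0, 9, 0), (0, 8, 1), (0, 2, 4), (0, 8, 3), (0, 11, 3), (0, 6, 5), (0, 1, 2), (0, 7, 2), (0, 1, 5), (0, 10, 2), (0, 4, 4), (0, 0, 0), (0, 2, 5), (0, 11, 4), (0, 6, 2), (0, 3, 3), (0, 11, 1), (0, 9, 5), (0,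 8, 2), (0, 4, 3), (0, 8, 5), (0, 3, 5), (0, 10, 5), (0, 7, 5), (0, 10, 0), (0, 6, 4), (0, 7, 1)]

/-- The plan. -/
def seven : Plan :=
  { f := 0xc45a022f9d47204db6a89fb6e673
    w := 0xcf18bc6887782b491044d5e34124
    fix := [[4, 3, 4], [4], [3, 3, 4, 3, 3, 3], [4, 4, 3, 4], [3, 3], [4, 4], [3, 3, 4, 4], [3, 4], [3, 4, 4, 3], [4, 3, 3, 3], [3, 3, 4, 3, 4, 4], [4, 3, 4, 4], [3, 4, 3, 4, 4], [3, 3, 3], [3, 4, 3, 4], [3, 3, 4, 3, 3], [4, 3, 3], [3, 3, 3, 4], [3, 4, 3, 4, 3, 4], [3, 4, 3, 3, 3], [3, 4, 4, 3, 3], [3, 4, 3, 4, 3], [3, 3, 4, 3], [4, 3, 3, 4], [3, 4, 4, 3, 4], [4, 3, 3, 4, 4], [3, 3, 3, 3, 4], [4, 4, 3, 3], [4, 3, 4, 3], [4, 4, 3], [3, 3, 3, 3, 3], [], [4, 3], [3, 3, 3, 4, 4], [3, 4, 3, 3], [3, 3, 3, 3], [3, 3, 4, 3, 4], [3, 3, 4], [3, 4, 4], [3, 4, 3], [3], [4, 3, 4, 3, 4]]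
    lef := [[]]
    reps := [[], [9], [8], [8, 8], [8, 9], [8, 3, 8], [8, 9, 8], [8, 8, 9], [9, 3, 8], [9, 3, 9], [8, 8, 8], [8, 3, 4, 8], [8, 3, 4, 9]]
    rig := [[], [3, 4], [4], [3, 4, 4], [3], [4, 4]]
    chunks := [(sevenEnt0, 0x10000000000000000000000000000)]
    crt := [(1, ([1000, 1, 0], 0x95e724a1b145a501ac25ef79980d), ([1000, 0], 0x4265781f9c58d6645fa9e8a8529f), ([1000, 4, 1, 0], 0xf205f4f89cb69232ba0c836f12d1)), (2, ([1, 0, 1000], 0xe454f5bfe80534958e6610980f28), ([1000, 2], 0x41fc21cae1198686f26cbe428403), ([1, 1000, 3], 0x722ca445d3f4a047c82deaf163a7)), (3, ([2, 1000, 3, 2], 0xcf750b8afb330bbc841453773089), ([1000, 2, 2], 0x17cc7df2428ce855e44d5888272), ([1000, 3, 0, 1], 0x7337433528e2e0b3fa6d5f4737d5)), (4, ([4, 1000, 1], 0x4ef6ca88b25dc943a95bac656895), ([4, 1, 1000, 2], 0x3d218666e1c8b6e6ea946500604c),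 ([2, 2, 1000], 0xde9116e5cd1cbbbc3953bae566d)), (5, ([1000, 2, 2, 2], 0xc5a7131f4339a06405e4b9b3530b), ([3, 1000, 2], 0xa290a86ede91bca0b7136323cba4), ([0, 1000, 4], 0xde93ab333872654d8f100c83e33c)), (6, ([1000, 3, 2], 0x981f0ec4dfdaee01d8ef939ebff), ([2, 1000], 0x821849aa63a0f48302ccecb74a43), ([1000, 4, 0], 0xbfd80683eea4f3946d3cb5399037)), (7, ([2, 3, 1000], 0xe78d1b837fab69106edf5e9ce3f1), ([3, 2, 1000], 0x640d2e621c35e30368823675a660), ([4, 1000, 0], 0xadd85d8c27eb5053208e1849945)), (8, ([1, 1000], 0x923f7c7d6349bd6099d2bbcf23a7), ([2, 1000], 0x55ff355b62d72b8b18f758f4c5f7), ([2, 1000, 3], 0xd13bef0d0ecc43ec02e538b73364)), (9, ([1000, 1], 0x3301fb8fdaf4dcd5fdf1250882dc), ([1000, 2, 3, 1], 0xec7e26cc47d7f5148c84c65936c5), ([0, 3, 1000], 0x83c9c7b683a28f7afd6e0ab6f753)), (10, ([1000, 1, 2], 0xa7d53186b06682a6fd705a7f2825),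 ([1000, 2, 1, 0], 0x7c34498489910ff79c1ffa6485), ([4, 0, 1000], 0xa0de76c6b74fd0a9208dffe62d2c)), (11, ([2, 3, 1000], 0xbcb451c3b06bde69c4bad1e4ecf2), ([1000, 1], 0xaa1b1c1715df521fd0d733ecace4), ([1000, 3, 2], 0xd68b38958d3650ceef6efc356bf7)), (12, ([4, 1000, 2, 3, 4], 0x12335de1d40460e964a1cc03aa8a), ([0, 0, 1000], 0x69153ef84b52af5c7ed2c5a2bd1), ([2, 1000, 3], 0x12d5dbb0bc285b8144fc73020f7c))] }

end Cfsg.Lib.J4NonLocal.MTwentyTwo
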