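import Cfsg.Agent.J4NonLocal.MTwentyTwo.Data.Nodes0
import Cfsg.Agent.J4NonLocal.MTwentyTwo.Data.Nodes1
import Cfsg.Agent.J4NonLocal.MTwentyTwo.Data.Nodes2
import Cfsg.Agent.J4NonLocal.MTwentyTwo.Data.Nodes3
import Cfsg.Agent.J4NonLocal.MTwentyTwo.Data.Nodes4
import Cfsg.Agent.J4NonLocal.MTwentyTwo.Data.Nodes5
import Cfsg.Agent.J4NonLocal.MTwentyTwo.Data.Nodes6
import Cfsg.Agent.J4NonLocal.MTwentyTwo.Data.Nodes7
import Cfsg.Agent.J4NonLocal.MTwentyTwo.Data.Nodes8
import Cfsg.Agent.J4NonLocal.MTwentyTwo.Data.Nodes9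
import Cfsg.Agent.J4NonLocal.MTwentyTwo.Data.Nodes10
import Cfsg.Agent.J4NonLocal.MTwentyTwo.Data.Nodes11
import Cfsg.Agent.J4NonLocal.MTwentyTwo.Data.Nodes12

/-!
The table of the nodes and how they arise.
-/

set_option autoImplicit false
set_option maxRecDepth 8000

namespace Cfsg.Lib.J4NonLocal.MTwentyTwo

open Cfsg.Lib.J4Cert

def ndTree0 : Tr (List ℕ) := .node (.leaf nd0) (.leaf nd512)

def ndTree1 : Tr (List ℕ) := .node (.leaf nd256) (.leaf nd768)

def ndTree2 : Tr (List ℕ) := .node ndTree0 ndTree1

def ndTree3 : Tr (List ℕ) := .node (.leaf nd128) (.leaf nd640)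

def ndTree4 : Tr (List ℕ) := .node (.leaf nd384) (.leaf nd896)

def ndTree5 : Tr (List ℕ) := .node ndTree3 ndTree4

def ndTree6 : Tr (List ℕ) := .node ndTree2 ndTree5

def ndTree7 : Tr (List ℕ) := .node (.leaf nd64) (.leaf nd576)

def ndTree8 : Tr (List ℕ) := .node (.leaf nd320) (.leaf nd832)

def ndTree9 : Tr (List ℕ) := .node ndTree7 ndTree8

def ndTree10 : Tr (List ℕ) := .node (.leaf nd192) (.leaf nd704)

def ndTree11 : Tr (List ℕ) := .node (.leaf nd448) (.leaf nd960)

def ndTree12 : Tr (List ℕ) := .node ndTree10 ndTree11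

def ndTree13 : Tr (List ℕ) := .node ndTree9 ndTree12

def ndTree14 : Tr (List ℕ) := .node ndTree6 ndTree13

def ndTree15 : Tr (List ℕ) := .node (.leaf nd32) (.leaf nd544)

def ndTree16 : Tr (List ℕ) := .node (.leaf nd288) (.leaf nd800)

def ndTree17 : Tr (List ℕ) := .node ndTree15 ndTree16

def ndTree18 : Tr (List ℕ) := .node (.leaf nd160) (.leaf nd672)

def ndTree19 : Tr (List ℕ) := .node (.leaf nd416) (.leaf nd928)

def ndTree20 : Tr (List ℕ) := .node ndTree18 ndTree19

def ndTree21 : Tr (List ℕ) := .node ndTree17 ndTree20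

def ndTree22 : Tr (List ℕ) := .node (.leaf nd96) (.leaf nd608)

def ndTree23 : Tr (List ℕ) := .node (.leaf nd352) (.leaf nd864)

def ndTree24 : Tr (List ℕ) := .node ndTree22 ndTree23

def ndTree25 : Tr (List ℕ) := .node (.leaf nd224) (.leaf nd736)

def ndTree26 : Tr (List ℕ) := .node (.leaf nd480) (.leaf nd992)

def ndTree27 : Tr (List ℕ) := .node ndTree25 ndTree26

def ndTree28 : Tr (List ℕ) := .node ndTree24 ndTree27

def ndTree29 : Tr (List ℕ) := .node ndTree21 ndTree28

def ndTree30 : Tr (List ℕ) := .node ndTree14 ndTree29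

def ndTree31 : Tr (List ℕ) := .node (.leaf nd16) (.leaf nd528)

def ndTree32 : Tr (List ℕ) := .node (.leaf nd272) (.leaf nd784)

def ndTree33 : Tr (List ℕ) := .node ndTree31 ndTree32

def ndTree34 : Tr (List ℕ) := .node (.leaf nd144) (.leaf nd656)

def ndTree35 : Tr (List ℕ) := .node (.leaf nd400) (.leaf nd912)

def ndTree36 : Tr (List ℕ) := .node ndTree34 ndTree35

def ndTree37 : Tr (List ℕ) := .node ndTree33 ndTree36

def ndTree38 : Tr (List ℕ) := .node (.leaf nd80) (.leaf nd592)

def ndTree39 : Tr (List ℕ) := .node (.leaf nd336) (.leaf nd848)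

def ndTree40 : Tr (List ℕ) := .node ndTree38 ndTree39

def ndTree41 : Tr (List ℕ) := .node (.leaf nd208) (.leaf nd720)

def ndTree42 : Tr (List ℕ) := .node (.leaf nd464) (.leaf nd976)

def ndTree43 : Tr (List ℕ) := .node ndTree41 ndTree42

def ndTree44 : Tr (List ℕ) := .node ndTree40 ndTree43

def ndTree45 : Tr (List ℕ) := .node ndTree37 ndTree44

def ndTree46 : Tr (List ℕ) := .node (.leaf nd48) (.leaf nd560)

def ndTree47 : Tr (List ℕ) := .node (.leaf nd304) (.leaf nd816)

def ndTree48 : Tr (List ℕ) := .node ndTree46 ndTree47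

def ndTree49 : Tr (List ℕ) := .node (.leaf nd176) (.leaf nd688)

def ndTree50 : Tr (List ℕ) := .node (.leaf nd432) (.leaf nd944)

def ndTree51 : Tr (List ℕ) := .node ndTree49 ndTree50

def ndTree52 : Tr (List ℕ) := .node ndTree48 ndTree51

def ndTree53 : Tr (List ℕ) := .node (.leaf nd112) (.leaf nd624)

def ndTree54 : Tr (List ℕ) := .node (.leaf nd368) (.leaf nd880)

def ndTree55 : Tr (List ℕ) := .node ndTree53 ndTree54

def ndTree56 : Tr (List ℕ) := .node (.leaf nd240) (.leaf nd752)

def ndTree57 : Tr (List ℕ) := .node ndTree56 (.leaf nd496)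

def ndTree58 : Tr (List ℕ) := .node ndTree55 ndTree57

def ndTree59 : Tr (List ℕ) := .node ndTree52 ndTree58

def ndTree60 : Tr (List ℕ) := .node ndTree45 ndTree59

def ndTree61 : Tr (List ℕ) := .node ndTree30 ndTree60

def ndTree62 : Tr (List ℕ) := .node (.leaf nd8) (.leaf nd520)

def ndTree63 : Tr (List ℕ) := .node (.leaf nd264) (.leaf nd776)

def ndTree64 : Tr (List ℕ) := .node ndTree62 ndTree63

def ndTree65 : Tr (List ℕ) := .node (.leaf nd136) (.leaf nd648)

def ndTree66 : Tr (List ℕ) := .node (.leaf nd392) (.leaf nd904)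

def ndTree67 : Tr (List ℕ) := .node ndTree65 ndTree66

def ndTree68 : Tr (List ℕ) := .node ndTree64 ndTree67

def ndTree69 : Tr (List ℕ) := .node (.leaf nd72) (.leaf nd584)

def ndTree70 : Tr (List ℕ) := .node (.leaf nd328) (.leaf nd840)

def ndTree71 : Tr (List ℕ) := .node ndTree69 ndTree70

def ndTree72 : Tr (List ℕ) := .node (.leaf nd200) (.leaf nd712)

def ndTree73 : Tr (List ℕ) := .node (.leaf nd456) (.leaf nd968)

def ndTree74 : Tr (List ℕ) := .node ndTree72 ndTree73

def ndTree75 : Tr (List ℕ) := .node ndTree71 ndTree74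

def ndTree76 : Tr (List ℕ) := .node ndTree68 ndTree75

def ndTree77 : Tr (List ℕ) := .node (.leaf nd40) (.leaf nd552)

def ndTree78 : Tr (List ℕ) := .node (.leaf nd296) (.leaf nd808)

def ndTree79 : Tr (List ℕ) := .node ndTree77 ndTree78

def ndTree80 : Tr (List ℕ) := .node (.leaf nd168) (.leaf nd680)

def ndTree81 : Tr (List ℕ) := .node (.leaf nd424) (.leaf nd936)

def ndTree82 : Tr (List ℕ) := .node ndTree80 ndTree81

def ndTree83 : Tr (List ℕ) := .node ndTree79 ndTree82

def ndTree84 : Tr (List ℕ) := .node (.leaf nd104) (.leaf nd616)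

def ndTree85 : Tr (List ℕ) := .node (.leaf nd360) (.leaf nd872)

def ndTree86 : Tr (List ℕ) := .node ndTree84 ndTree85

def ndTree87 : Tr (List ℕ) := .node (.leaf nd232) (.leaf nd744)

def ndTree88 : Tr (List ℕ) := .node (.leaf nd488) (.leaf nd1000)

def ndTree89 : Tr (List ℕ) := .node ndTree87 ndTree88

def ndTree90 : Tr (List ℕ) := .node ndTree86 ndTree89

def ndTree91 : Tr (List ℕ) := .node ndTree83 ndTree90

def ndTree92 : Tr (List ℕ) := .node ndTree76 ndTree91

def ndTree93 : Tr (List ℕ) := .node (.leaf nd24) (.leaf nd536)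

def ndTree94 : Tr (List ℕ) := .node (.leaf nd280) (.leaf nd792)

def ndTree95 : Tr (List ℕ) := .node ndTree93 ndTree94

def ndTree96 : Tr (List ℕ) := .node (.leaf nd152) (.leaf nd664)

def ndTree97 : Tr (List ℕ) := .node (.leaf nd408) (.leaf nd920)

def ndTree98 : Tr (List ℕ) := .node ndTree96 ndTree97

def ndTree99 : Tr (List ℕ) := .node ndTree95 ndTree98

def ndTree100 : Tr (List ℕ) := .node (.leaf nd88) (.leaf nd600)

def ndTree101 : Tr (List ℕ) := .node (.leaf nd344) (.leaf nd856)

def ndTree102 : Tr (List ℕ) := .node ndTree100 ndTree101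

def ndTree103 : Tr (List ℕ) := .node (.leaf nd216) (.leaf nd728)

def ndTree104 : Tr (List ℕ) := .node (.leaf nd472) (.leaf nd984)

def ndTree105 : Tr (List ℕ) := .node ndTree103 ndTree104

def ndTree106 : Tr (List ℕ) := .node ndTree102 ndTree105

def ndTree107 : Tr (List ℕ) := .node ndTree99 ndTree106

def ndTree108 : Tr (List ℕ) := .node (.leaf nd56) (.leaf nd568)

def ndTree109 : Tr (List ℕ) := .node (.leaf nd312) (.leaf nd824)

def ndTree110 : Tr (List ℕ) := .node ndTree108 ndTree109

def ndTree111 : Tr (List ℕ) := .node (.leaf nd184) (.leaf nd696)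

def ndTree112 : Tr (List ℕ) := .node (.leaf nd440) (.leaf nd952)

def ndTree113 : Tr (List ℕ) := .node ndTree111 ndTree112

def ndTree114 : Tr (List ℕ) := .node ndTree110 ndTree113

def ndTree115 : Tr (List ℕ) := .node (.leaf nd120) (.leaf nd632)

def ndTree116 : Tr (List ℕ) := .node (.leaf nd376) (.leaf nd888)

def ndTree117 : Tr (List ℕ) := .node ndTree115 ndTree116

def ndTree118 : Tr (List ℕ) := .node (.leaf nd248) (.leaf nd760)

def ndTree119 : Tr (List ℕ) := .node ndTree118 (.leaf nd504)

def ndTree120 : Tr (List ℕ) := .node ndTree117 ndTree119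

def ndTree121 : Tr (List ℕ) := .node ndTree114 ndTree120

def ndTree122 : Tr (List ℕ) := .node ndTree107 ndTree121

def ndTree123 : Tr (List ℕ) := .node ndTree92 ndTree122

def ndTree124 : Tr (List ℕ) := .node ndTree61 ndTree123

def ndTree125 : Tr (List ℕ) := .node (.leaf nd4) (.leaf nd516)

def ndTree126 : Tr (List ℕ) := .node (.leaf nd260) (.leaf nd772)

def ndTree127 : Tr (List ℕ) := .node ndTree125 ndTree126

def ndTree128 : Tr (List ℕ) := .node (.leaf nd132) (.leaf nd644)

def ndTree129 : Tr (List ℕ) := .node (.leaf nd388) (.leaf nd900)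

def ndTree130 : Tr (List ℕ) := .node ndTree128 ndTree129

def ndTree131 : Tr (List ℕ) := .node ndTree127 ndTree130

def ndTree132 : Tr (List ℕ) := .node (.leaf nd68) (.leaf nd580)

def ndTree133 : Tr (List ℕ) := .node (.leaf nd324) (.leaf nd836)

def ndTree134 : Tr (List ℕ) := .node ndTree132 ndTree133

def ndTree135 : Tr (List ℕ) := .node (.leaf nd196) (.leaf nd708)

def ndTree136 : Tr (List ℕ) := .node (.leaf nd452) (.leaf nd964)

def ndTree137 : Tr (List ℕ) := .node ndTree135 ndTree136

def ndTree138 : Tr (List ℕ) := .node ndTree134 ndTree137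

def ndTree139 : Tr (List ℕ) := .node ndTree131 ndTree138

def ndTree140 : Tr (List ℕ) := .node (.leaf nd36) (.leaf nd548)

def ndTree141 : Tr (List ℕ) := .node (.leaf nd292) (.leaf nd804)

def ndTree142 : Tr (List ℕ) := .node ndTree140 ndTree141

def ndTree143 : Tr (List ℕ) := .node (.leaf nd164) (.leaf nd676)

def ndTree144 : Tr (List ℕ) := .node (.leaf nd420) (.leaf nd932)

def ndTree145 : Tr (List ℕ) := .node ndTree143 ndTree144

def ndTree146 : Tr (List ℕ) := .node ndTree142 ndTree145

def ndTree147 : Tr (List ℕ) := .node (.leaf nd100) (.leaf nd612)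

def ndTree148 : Tr (List ℕ) := .node (.leaf nd356) (.leaf nd868)

def ndTree149 : Tr (List ℕ) := .node ndTree147 ndTree148

def ndTree150 : Tr (List ℕ) := .node (.leaf nd228) (.leaf nd740)

def ndTree151 : Tr (List ℕ) := .node (.leaf nd484) (.leaf nd996)

def ndTree152 : Tr (List ℕ) := .node ndTree150 ndTree151

def ndTree153 : Tr (List ℕ) := .node ndTree149 ndTree152

def ndTree154 : Tr (List ℕ) := .node ndTree146 ndTree153

def ndTree155 : Tr (List ℕ) := .node ndTree139 ndTree154

def ndTree156 : Tr (List ℕ) := .node (.leaf nd20) (.leaf nd532)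

def ndTree157 : Tr (List ℕ) := .node (.leaf nd276) (.leaf nd788)

def ndTree158 : Tr (List ℕ) := .node ndTree156 ndTree157

def ndTree159 : Tr (List ℕ) := .node (.leaf nd148) (.leaf nd660)

def ndTree160 : Tr (List ℕ) := .node (.leaf nd404) (.leaf nd916)

def ndTree161 : Tr (List ℕ) := .node ndTree159 ndTree160

def ndTree162 : Tr (List ℕ) := .node ndTree158 ndTree161

def ndTree163 : Tr (List ℕ) := .node (.leaf nd84) (.leaf nd596)

def ndTree164 : Tr (List ℕ) := .node (.leaf nd340) (.leaf nd852)

def ndTree165 : Tr (List ℕ) := .node ndTree163 ndTree164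

def ndTree166 : Tr (List ℕ) := .node (.leaf nd212) (.leaf nd724)

def ndTree167 : Tr (List ℕ) := .node (.leaf nd468) (.leaf nd980)

def ndTree168 : Tr (List ℕ) := .node ndTree166 ndTree167

def ndTree169 : Tr (List ℕ) := .node ndTree165 ndTree168

def ndTree170 : Tr (List ℕ) := .node ndTree162 ndTree169

def ndTree171 : Tr (List ℕ) := .node (.leaf nd52) (.leaf nd564)

def ndTree172 : Tr (List ℕ) := .node (.leaf nd308) (.leaf nd820)

def ndTree173 : Tr (List ℕ) := .node ndTree171 ndTree172

def ndTree174 : Tr (List ℕ) := .node (.leaf nd180) (.leaf nd692)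

def ndTree175 : Tr (List ℕ) := .node (.leaf nd436) (.leaf nd948)

def ndTree176 : Tr (List ℕ) := .node ndTree174 ndTree175

def ndTree177 : Tr (List ℕ) := .node ndTree173 ndTree176

def ndTree178 : Tr (List ℕ) := .node (.leaf nd116) (.leaf nd628)

def ndTree179 : Tr (List ℕ) := .node (.leaf nd372) (.leaf nd884)

def ndTree180 : Tr (List ℕ) := .node ndTree178 ndTree179

def ndTree181 : Tr (List ℕ) := .node (.leaf nd244) (.leaf nd756)

def ndTree182 : Tr (List ℕ) := .node ndTree181 (.leaf nd500)

def ndTree183 : Tr (List ℕ) := .node ndTree180 ndTree182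

def ndTree184 : Tr (List ℕ) := .node ndTree177 ndTree183

def ndTree185 : Tr (List ℕ) := .node ndTree170 ndTree184

def ndTree186 : Tr (List ℕ) := .node ndTree155 ndTree185

def ndTree187 : Tr (List ℕ) := .node (.leaf nd12) (.leaf nd524)

def ndTree188 : Tr (List ℕ) := .node (.leaf nd268) (.leaf nd780)

def ndTree189 : Tr (List ℕ) := .node ndTree187 ndTree188

def ndTree190 : Tr (List ℕ) := .node (.leaf nd140) (.leaf nd652)

def ndTree191 : Tr (List ℕ) := .node (.leaf nd396) (.leaf nd908)

def ndTree192 : Tr (List ℕ) := .node ndTree190 ndTree191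

def ndTree193 : Tr (List ℕ) := .node ndTree189 ndTree192

def ndTree194 : Tr (List ℕ) := .node (.leaf nd76) (.leaf nd588)

def ndTree195 : Tr (List ℕ) := .node (.leaf nd332) (.leaf nd844)

def ndTree196 : Tr (List ℕ) := .node ndTree194 ndTree195

def ndTree197 : Tr (List ℕ) := .node (.leaf nd204) (.leaf nd716)

def ndTree198 : Tr (List ℕ) := .node (.leaf nd460) (.leaf nd972)

def ndTree199 : Tr (List ℕ) := .node ndTree197 ndTree198

def ndTree200 : Tr (List ℕ) := .node ndTree196 ndTree199

def ndTree201 : Tr (List ℕ) := .node ndTree193 ndTree200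

def ndTree202 : Tr (List ℕ) := .node (.leaf nd44) (.leaf nd556)

def ndTree203 : Tr (List ℕ) := .node (.leaf nd300) (.leaf nd812)

def ndTree204 : Tr (List ℕ) := .node ndTree202 ndTree203

def ndTree205 : Tr (List ℕ) := .node (.leaf nd172) (.leaf nd684)

def ndTree206 : Tr (List ℕ) := .node (.leaf nd428) (.leaf nd940)

def ndTree207 : Tr (List ℕ) := .node ndTree205 ndTree206

def ndTree208 : Tr (List ℕ) := .node ndTree204 ndTree207

def ndTree209 : Tr (List ℕ) := .node (.leaf nd108) (.leaf nd620)

def ndTree210 : Tr (List ℕ) := .node (.leaf nd364) (.leaf nd876)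

def ndTree211 : Tr (List ℕ) := .node ndTree209 ndTree210

def ndTree212 : Tr (List ℕ) := .node (.leaf nd236) (.leaf nd748)

def ndTree213 : Tr (List ℕ) := .node (.leaf nd492) (.leaf nd1004)

def ndTree214 : Tr (List ℕ) := .node ndTree212 ndTree213

def ndTree215 : Tr (List ℕ) := .node ndTree211 ndTree214

def ndTree216 : Tr (List ℕ) := .node ndTree208 ndTree215

def ndTree217 : Tr (List ℕ) := .node ndTree201 ndTree216

def ndTree218 : Tr (List ℕ) := .node (.leaf nd28) (.leaf nd540)

def ndTree219 : Tr (List ℕ) := .node (.leaf nd284) (.leaf nd796)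

def ndTree220 : Tr (List ℕ) := .node ndTree218 ndTree219

def ndTree221 : Tr (List ℕ) := .node (.leaf nd156) (.leaf nd668)

def ndTree222 : Tr (List ℕ) := .node (.leaf nd412) (.leaf nd924)

def ndTree223 : Tr (List ℕ) := .node ndTree221 ndTree222

def ndTree224 : Tr (List ℕ) := .node ndTree220 ndTree223

def ndTree225 : Tr (List ℕ) := .node (.leaf nd92) (.leaf nd604)

def ndTree226 : Tr (List ℕ) := .node (.leaf nd348) (.leaf nd860)

def ndTree227 : Tr (List ℕ) := .node ndTree225 ndTree226

def ndTree228 : Tr (List ℕ) := .node (.leaf nd220) (.leaf nd732)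

def ndTree229 : Tr (List ℕ) := .node (.leaf nd476) (.leaf nd988)

def ndTree230 : Tr (List ℕ) := .node ndTree228 ndTree229

def ndTree231 : Tr (List ℕ) := .node ndTree227 ndTree230

def ndTree232 : Tr (List ℕ) := .node ndTree224 ndTree231

def ndTree233 : Tr (List ℕ) := .node (.leaf nd60) (.leaf nd572)

def ndTree234 : Tr (List ℕ) := .node (.leaf nd316) (.leaf nd828)

def ndTree235 : Tr (List ℕ) := .node ndTree233 ndTree234

def ndTree236 : Tr (List ℕ) := .node (.leaf nd188) (.leaf nd700)

def ndTree237 : Tr (List ℕ) := .node (.leaf nd444) (.leaf nd956)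

def ndTree238 : Tr (List ℕ) := .node ndTree236 ndTree237

def ndTree239 : Tr (List ℕ) := .node ndTree235 ndTree238

def ndTree240 : Tr (List ℕ) := .node (.leaf nd124) (.leaf nd636)

def ndTree241 : Tr (List ℕ) := .node (.leaf nd380) (.leaf nd892)

def ndTree242 : Tr (List ℕ) := .node ndTree240 ndTree241

def ndTree243 : Tr (List ℕ) := .node (.leaf nd252) (.leaf nd764)

def ndTree244 : Tr (List ℕ) := .node ndTree243 (.leaf nd508)

def ndTree245 : Tr (List ℕ) := .node ndTree242 ndTree244

def ndTree246 : Tr (List ℕ) := .node ndTree239 ndTree245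

def ndTree247 : Tr (List ℕ) := .node ndTree232 ndTree246

def ndTree248 : Tr (List ℕ) := .node ndTree217 ndTree247

def ndTree249 : Tr (List ℕ) := .node ndTree186 ndTree248

def ndTree250 : Tr (List ℕ) := .node ndTree124 ndTree249

def ndTree251 : Tr (List ℕ) := .node (.leaf nd2) (.leaf nd514)

def ndTree252 : Tr (List ℕ) := .node (.leaf nd258) (.leaf nd770)

def ndTree253 : Tr (List ℕ) := .node ndTree251 ndTree252

def ndTree254 : Tr (List ℕ) := .node (.leaf nd130) (.leaf nd642)

def ndTree255 : Tr (List ℕ) := .node (.leaf nd386) (.leaf nd898)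

def ndTree256 : Tr (List ℕ) := .node ndTree254 ndTree255

def ndTree257 : Tr (List ℕ) := .node ndTree253 ndTree256

def ndTree258 : Tr (List ℕ) := .node (.leaf nd66) (.leaf nd578)

def ndTree259 : Tr (List ℕ) := .node (.leaf nd322) (.leaf nd834)

def ndTree260 : Tr (List ℕ) := .node ndTree258 ndTree259

def ndTree261 : Tr (List ℕ) := .node (.leaf nd194) (.leaf nd706)

def ndTree262 : Tr (List ℕ) := .node (.leaf nd450) (.leaf nd962)

def ndTree263 : Tr (List ℕ) := .node ndTree261 ndTree262

def ndTree264 : Tr (List ℕ) := .node ndTree260 ndTree263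

def ndTree265 : Tr (List ℕ) := .node ndTree257 ndTree264

def ndTree266 : Tr (List ℕ) := .node (.leaf nd34) (.leaf nd546)

def ndTree267 : Tr (List ℕ) := .node (.leaf nd290) (.leaf nd802)

def ndTree268 : Tr (List ℕ) := .node ndTree266 ndTree267

def ndTree269 : Tr (List ℕ) := .node (.leaf nd162) (.leaf nd674)

def ndTree270 : Tr (List ℕ) := .node (.leaf nd418) (.leaf nd930)

def ndTree271 : Tr (List ℕ) := .node ndTree269 ndTree270

def ndTree272 : Tr (List ℕ) := .node ndTree268 ndTree271

def ndTree273 : Tr (List ℕ) := .node (.leaf nd98) (.leaf nd610)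

def ndTree274 : Tr (List ℕ) := .node (.leaf nd354) (.leaf nd866)

def ndTree275 : Tr (List ℕ) := .node ndTree273 ndTree274

def ndTree276 : Tr (List ℕ) := .node (.leaf nd226) (.leaf nd738)

def ndTree277 : Tr (List ℕ) := .node (.leaf nd482) (.leaf nd994)

def ndTree278 : Tr (List ℕ) := .node ndTree276 ndTree277

def ndTree279 : Tr (List ℕ) := .node ndTree275 ndTree278

def ndTree280 : Tr (List ℕ) := .node ndTree272 ndTree279

def ndTree281 : Tr (List ℕ) := .node ndTree265 ndTree280

def ndTree282 : Tr (List ℕ) := .node (.leaf nd18) (.leaf nd530)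

def ndTree283 : Tr (List ℕ) := .node (.leaf nd274) (.leaf nd786)

def ndTree284 : Tr (List ℕ) := .node ndTree282 ndTree283

def ndTree285 : Tr (List ℕ) := .node (.leaf nd146) (.leaf nd658)

def ndTree286 : Tr (List ℕ) := .node (.leaf nd402) (.leaf nd914)

def ndTree287 : Tr (List ℕ) := .node ndTree285 ndTree286

def ndTree288 : Tr (List ℕ) := .node ndTree284 ndTree287

def ndTree289 : Tr (List ℕ) := .node (.leaf nd82) (.leaf nd594)

def ndTree290 : Tr (List ℕ) := .node (.leaf nd338) (.leaf nd850)

def ndTree291 : Tr (List ℕ) := .node ndTree289 ndTree290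

def ndTree292 : Tr (List ℕ) := .node (.leaf nd210) (.leaf nd722)

def ndTree293 : Tr (List ℕ) := .node (.leaf nd466) (.leaf nd978)

def ndTree294 : Tr (List ℕ) := .node ndTree292 ndTree293

def ndTree295 : Tr (List ℕ) := .node ndTree291 ndTree294

def ndTree296 : Tr (List ℕ) := .node ndTree288 ndTree295

def ndTree297 : Tr (List ℕ) := .node (.leaf nd50) (.leaf nd562)

def ndTree298 : Tr (List ℕ) := .node (.leaf nd306) (.leaf nd818)

def ndTree299 : Tr (List ℕ) := .node ndTree297 ndTree298

def ndTree300 : Tr (List ℕ) := .node (.leaf nd178) (.leaf nd690)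

def ndTree301 : Tr (List ℕ) := .node (.leaf nd434) (.leaf nd946)

def ndTree302 : Tr (List ℕ) := .node ndTree300 ndTree301

def ndTree303 : Tr (List ℕ) := .node ndTree299 ndTree302

def ndTree304 : Tr (List ℕ) := .node (.leaf nd114) (.leaf nd626)

def ndTree305 : Tr (List ℕ) := .node (.leaf nd370) (.leaf nd882)

def ndTree306 : Tr (List ℕ) := .node ndTree304 ndTree305

def ndTree307 : Tr (List ℕ) := .node (.leaf nd242) (.leaf nd754)

def ndTree308 : Tr (List ℕ) := .node ndTree307 (.leaf nd498)

def ndTree309 : Tr (List ℕ) := .node ndTree306 ndTree308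

def ndTree310 : Tr (List ℕ) := .node ndTree303 ndTree309

def ndTree311 : Tr (List ℕ) := .node ndTree296 ndTree310

def ndTree312 : Tr (List ℕ) := .node ndTree281 ndTree311

def ndTree313 : Tr (List ℕ) := .node (.leaf nd10) (.leaf nd522)

def ndTree314 : Tr (List ℕ) := .node (.leaf nd266) (.leaf nd778)

def ndTree315 : Tr (List ℕ) := .node ndTree313 ndTree314

def ndTree316 : Tr (List ℕ) := .node (.leaf nd138) (.leaf nd650)

def ndTree317 : Tr (List ℕ) := .node (.leaf nd394) (.leaf nd906)

def ndTree318 : Tr (List ℕ) := .node ndTree316 ndTree317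

def ndTree319 : Tr (List ℕ) := .node ndTree315 ndTree318

def ndTree320 : Tr (List ℕ) := .node (.leaf nd74) (.leaf nd586)

def ndTree321 : Tr (List ℕ) := .node (.leaf nd330) (.leaf nd842)

def ndTree322 : Tr (List ℕ) := .node ndTree320 ndTree321

def ndTree323 : Tr (List ℕ) := .node (.leaf nd202) (.leaf nd714)

def ndTree324 : Tr (List ℕ) := .node (.leaf nd458) (.leaf nd970)

def ndTree325 : Tr (List ℕ) := .node ndTree323 ndTree324

def ndTree326 : Tr (List ℕ) := .node ndTree322 ndTree325

def ndTree327 : Tr (List ℕ) := .node ndTree319 ndTree326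

def ndTree328 : Tr (List ℕ) := .node (.leaf nd42) (.leaf nd554)

def ndTree329 : Tr (List ℕ) := .node (.leaf nd298) (.leaf nd810)

def ndTree330 : Tr (List ℕ) := .node ndTree328 ndTree329

def ndTree331 : Tr (List ℕ) := .node (.leaf nd170) (.leaf nd682)

def ndTree332 : Tr (List ℕ) := .node (.leaf nd426) (.leaf nd938)

def ndTree333 : Tr (List ℕ) := .node ndTree331 ndTree332

def ndTree334 : Tr (List ℕ) := .node ndTree330 ndTree333

def ndTree335 : Tr (List ℕ) := .node (.leaf nd106) (.leaf nd618)

def ndTree336 : Tr (List ℕ) := .node (.leaf nd362) (.leaf nd874)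

def ndTree337 : Tr (List ℕ) := .node ndTree335 ndTree336

def ndTree338 : Tr (List ℕ) := .node (.leaf nd234) (.leaf nd746)

def ndTree339 : Tr (List ℕ) := .node (.leaf nd490) (.leaf nd1002)

def ndTree340 : Tr (List ℕ) := .node ndTree338 ndTree339

def ndTree341 : Tr (List ℕ) := .node ndTree337 ndTree340

def ndTree342 : Tr (List ℕ) := .node ndTree334 ndTree341

def ndTree343 : Tr (List ℕ) := .node ndTree327 ndTree342

def ndTree344 : Tr (List ℕ) := .node (.leaf nd26) (.leaf nd538)

def ndTree345 : Tr (List ℕ) := .node (.leaf nd282) (.leaf nd794)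

def ndTree346 : Tr (List ℕ) := .node ndTree344 ndTree345

def ndTree347 : Tr (List ℕ) := .node (.leaf nd154) (.leaf nd666)

def ndTree348 : Tr (List ℕ) := .node (.leaf nd410) (.leaf nd922)

def ndTree349 : Tr (List ℕ) := .node ndTree347 ndTree348

def ndTree350 : Tr (List ℕ) := .node ndTree346 ndTree349

def ndTree351 : Tr (List ℕ) := .node (.leaf nd90) (.leaf nd602)

def ndTree352 : Tr (List ℕ) := .node (.leaf nd346) (.leaf nd858)

def ndTree353 : Tr (List ℕ) := .node ndTree351 ndTree352

def ndTree354 : Tr (List ℕ) := .node (.leaf nd218) (.leaf nd730)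

def ndTree355 : Tr (List ℕ) := .node (.leaf nd474) (.leaf nd986)

def ndTree356 : Tr (List ℕ) := .node ndTree354 ndTree355

def ndTree357 : Tr (List ℕ) := .node ndTree353 ndTree356

def ndTree358 : Tr (List ℕ) := .node ndTree350 ndTree357

def ndTree359 : Tr (List ℕ) := .node (.leaf nd58) (.leaf nd570)

def ndTree360 : Tr (List ℕ) := .node (.leaf nd314) (.leaf nd826)

def ndTree361 : Tr (List ℕ) := .node ndTree359 ndTree360

def ndTree362 : Tr (List ℕ) := .node (.leaf nd186) (.leaf nd698)

def ndTree363 : Tr (List ℕ) := .node (.leaf nd442) (.leaf nd954)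

def ndTree364 : Tr (List ℕ) := .node ndTree362 ndTree363

def ndTree365 : Tr (List ℕ) := .node ndTree361 ndTree364

def ndTree366 : Tr (List ℕ) := .node (.leaf nd122) (.leaf nd634)

def ndTree367 : Tr (List ℕ) := .node (.leaf nd378) (.leaf nd890)

def ndTree368 : Tr (List ℕ) := .node ndTree366 ndTree367

def ndTree369 : Tr (List ℕ) := .node (.leaf nd250) (.leaf nd762)

def ndTree370 : Tr (List ℕ) := .node ndTree369 (.leaf nd506)

def ndTree371 : Tr (List ℕ) := .node ndTree368 ndTree370

def ndTree372 : Tr (List ℕ) := .node ndTree365 ndTree371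

def ndTree373 : Tr (List ℕ) := .node ndTree358 ndTree372

def ndTree374 : Tr (List ℕ) := .node ndTree343 ndTree373

def ndTree375 : Tr (List ℕ) := .node ndTree312 ndTree374

def ndTree376 : Tr (List ℕ) := .node (.leaf nd6) (.leaf nd518)

def ndTree377 : Tr (List ℕ) := .node (.leaf nd262) (.leaf nd774)

def ndTree378 : Tr (List ℕ) := .node ndTree376 ndTree377

def ndTree379 : Tr (List ℕ) := .node (.leaf nd134) (.leaf nd646)

def ndTree380 : Tr (List ℕ) := .node (.leaf nd390) (.leaf nd902)

def ndTree381 : Tr (List ℕ) := .node ndTree379 ndTree380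

def ndTree382 : Tr (List ℕ) := .node ndTree378 ndTree381

def ndTree383 : Tr (List ℕ) := .node (.leaf nd70) (.leaf nd582)

def ndTree384 : Tr (List ℕ) := .node (.leaf nd326) (.leaf nd838)

def ndTree385 : Tr (List ℕ) := .node ndTree383 ndTree384

def ndTree386 : Tr (List ℕ) := .node (.leaf nd198) (.leaf nd710)

def ndTree387 : Tr (List ℕ) := .node (.leaf nd454) (.leaf nd966)

def ndTree388 : Tr (List ℕ) := .node ndTree386 ndTree387

def ndTree389 : Tr (List ℕ) := .node ndTree385 ndTree388

def ndTree390 : Tr (List ℕ) := .node ndTree382 ndTree389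

def ndTree391 : Tr (List ℕ) := .node (.leaf nd38) (.leaf nd550)

def ndTree392 : Tr (List ℕ) := .node (.leaf nd294) (.leaf nd806)

def ndTree393 : Tr (List ℕ) := .node ndTree391 ndTree392

def ndTree394 : Tr (List ℕ) := .node (.leaf nd166) (.leaf nd678)

def ndTree395 : Tr (List ℕ) := .node (.leaf nd422) (.leaf nd934)

def ndTree396 : Tr (List ℕ) := .node ndTree394 ndTree395

def ndTree397 : Tr (List ℕ) := .node ndTree393 ndTree396

def ndTree398 : Tr (List ℕ) := .node (.leaf nd102) (.leaf nd614)

def ndTree399 : Tr (List ℕ) := .node (.leaf nd358) (.leaf nd870)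

def ndTree400 : Tr (List ℕ) := .node ndTree398 ndTree399

def ndTree401 : Tr (List ℕ) := .node (.leaf nd230) (.leaf nd742)

def ndTree402 : Tr (List ℕ) := .node (.leaf nd486) (.leaf nd998)

def ndTree403 : Tr (List ℕ) := .node ndTree401 ndTree402

def ndTree404 : Tr (List ℕ) := .node ndTree400 ndTree403

def ndTree405 : Tr (List ℕ) := .node ndTree397 ndTree404

def ndTree406 : Tr (List ℕ) := .node ndTree390 ndTree405

def ndTree407 : Tr (List ℕ) := .node (.leaf nd22) (.leaf nd534)

def ndTree408 : Tr (List ℕ) := .node (.leaf nd278) (.leaf nd790)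

def ndTree409 : Tr (List ℕ) := .node ndTree407 ndTree408

def ndTree410 : Tr (List ℕ) := .node (.leaf nd150) (.leaf nd662)

def ndTree411 : Tr (List ℕ) := .node (.leaf nd406) (.leaf nd918)

def ndTree412 : Tr (List ℕ) := .node ndTree410 ndTree411

def ndTree413 : Tr (List ℕ) := .node ndTree409 ndTree412

def ndTree414 : Tr (List ℕ) := .node (.leaf nd86) (.leaf nd598)

def ndTree415 : Tr (List ℕ) := .node (.leaf nd342) (.leaf nd854)

def ndTree416 : Tr (List ℕ) := .node ndTree414 ndTree415

def ndTree417 : Tr (List ℕ) := .node (.leaf nd214) (.leaf nd726)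

def ndTree418 : Tr (List ℕ) := .node (.leaf nd470) (.leaf nd982)

def ndTree419 : Tr (List ℕ) := .node ndTree417 ndTree418

def ndTree420 : Tr (List ℕ) := .node ndTree416 ndTree419

def ndTree421 : Tr (List ℕ) := .node ndTree413 ndTree420

def ndTree422 : Tr (List ℕ) := .node (.leaf nd54) (.leaf nd566)

def ndTree423 : Tr (List ℕ) := .node (.leaf nd310) (.leaf nd822)

def ndTree424 : Tr (List ℕ) := .node ndTree422 ndTree423

def ndTree425 : Tr (List ℕ) := .node (.leaf nd182) (.leaf nd694)

def ndTree426 : Tr (List ℕ) := .node (.leaf nd438) (.leaf nd950)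

def ndTree427 : Tr (List ℕ) := .node ndTree425 ndTree426

def ndTree428 : Tr (List ℕ) := .node ndTree424 ndTree427

def ndTree429 : Tr (List ℕ) := .node (.leaf nd118) (.leaf nd630)

def ndTree430 : Tr (List ℕ) := .node (.leaf nd374) (.leaf nd886)

def ndTree431 : Tr (List ℕ) := .node ndTree429 ndTree430

def ndTree432 : Tr (List ℕ) := .node (.leaf nd246) (.leaf nd758)

def ndTree433 : Tr (List ℕ) := .node ndTree432 (.leaf nd502)

def ndTree434 : Tr (List ℕ) := .node ndTree431 ndTree433

def ndTree435 : Tr (List ℕ) := .node ndTree428 ndTree434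

def ndTree436 : Tr (List ℕ) := .node ndTree421 ndTree435

def ndTree437 : Tr (List ℕ) := .node ndTree406 ndTree436

def ndTree438 : Tr (List ℕ) := .node (.leaf nd14) (.leaf nd526)

def ndTree439 : Tr (List ℕ) := .node (.leaf nd270) (.leaf nd782)

def ndTree440 : Tr (List ℕ) := .node ndTree438 ndTree439

def ndTree441 : Tr (List ℕ) := .node (.leaf nd142) (.leaf nd654)

def ndTree442 : Tr (List ℕ) := .node (.leaf nd398) (.leaf nd910)

def ndTree443 : Tr (List ℕ) := .node ndTree441 ndTree442

def ndTree444 : Tr (List ℕ) := .node ndTree440 ndTree443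

def ndTree445 : Tr (List ℕ) := .node (.leaf nd78) (.leaf nd590)

def ndTree446 : Tr (List ℕ) := .node (.leaf nd334) (.leaf nd846)

def ndTree447 : Tr (List ℕ) := .node ndTree445 ndTree446

def ndTree448 : Tr (List ℕ) := .node (.leaf nd206) (.leaf nd718)

def ndTree449 : Tr (List ℕ) := .node (.leaf nd462) (.leaf nd974)

def ndTree450 : Tr (List ℕ) := .node ndTree448 ndTree449

def ndTree451 : Tr (List ℕ) := .node ndTree447 ndTree450

def ndTree452 : Tr (List ℕ) := .node ndTree444 ndTree451

def ndTree453 : Tr (List ℕ) := .node (.leaf nd46) (.leaf nd558)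

def ndTree454 : Tr (List ℕ) := .node (.leaf nd302) (.leaf nd814)

def ndTree455 : Tr (List ℕ) := .node ndTree453 ndTree454

def ndTree456 : Tr (List ℕ) := .node (.leaf nd174) (.leaf nd686)

def ndTree457 : Tr (List ℕ) := .node (.leaf nd430) (.leaf nd942)

def ndTree458 : Tr (List ℕ) := .node ndTree456 ndTree457

def ndTree459 : Tr (List ℕ) := .node ndTree455 ndTree458

def ndTree460 : Tr (List ℕ) := .node (.leaf nd110) (.leaf nd622)

def ndTree461 : Tr (List ℕ) := .node (.leaf nd366) (.leaf nd878)

def ndTree462 : Tr (List ℕ) := .node ndTree460 ndTree461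

def ndTree463 : Tr (List ℕ) := .node (.leaf nd238) (.leaf nd750)

def ndTree464 : Tr (List ℕ) := .node (.leaf nd494) (.leaf nd1006)

def ndTree465 : Tr (List ℕ) := .node ndTree463 ndTree464

def ndTree466 : Tr (List ℕ) := .node ndTree462 ndTree465

def ndTree467 : Tr (List ℕ) := .node ndTree459 ndTree466

def ndTree468 : Tr (List ℕ) := .node ndTree452 ndTree467

def ndTree469 : Tr (List ℕ) := .node (.leaf nd30) (.leaf nd542)

def ndTree470 : Tr (List ℕ) := .node (.leaf nd286) (.leaf nd798)

def ndTree471 : Tr (List ℕ) := .node ndTree469 ndTree470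

def ndTree472 : Tr (List ℕ) := .node (.leaf nd158) (.leaf nd670)

def ndTree473 : Tr (List ℕ) := .node (.leaf nd414) (.leaf nd926)

def ndTree474 : Tr (List ℕ) := .node ndTree472 ndTree473

def ndTree475 : Tr (List ℕ) := .node ndTree471 ndTree474

def ndTree476 : Tr (List ℕ) := .node (.leaf nd94) (.leaf nd606)

def ndTree477 : Tr (List ℕ) := .node (.leaf nd350) (.leaf nd862)

def ndTree478 : Tr (List ℕ) := .node ndTree476 ndTree477

def ndTree479 : Tr (List ℕ) := .node (.leaf nd222) (.leaf nd734)

def ndTree480 : Tr (List ℕ) := .node (.leaf nd478) (.leaf nd990)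

def ndTree481 : Tr (List ℕ) := .node ndTree479 ndTree480

def ndTree482 : Tr (List ℕ) := .node ndTree478 ndTree481

def ndTree483 : Tr (List ℕ) := .node ndTree475 ndTree482

def ndTree484 : Tr (List ℕ) := .node (.leaf nd62) (.leaf nd574)

def ndTree485 : Tr (List ℕ) := .node (.leaf nd318) (.leaf nd830)

def ndTree486 : Tr (List ℕ) := .node ndTree484 ndTree485

def ndTree487 : Tr (List ℕ) := .node (.leaf nd190) (.leaf nd702)

def ndTree488 : Tr (List ℕ) := .node (.leaf nd446) (.leaf nd958)

def ndTree489 : Tr (List ℕ) := .node ndTree487 ndTree488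

def ndTree490 : Tr (List ℕ) := .node ndTree486 ndTree489

def ndTree491 : Tr (List ℕ) := .node (.leaf nd126) (.leaf nd638)

def ndTree492 : Tr (List ℕ) := .node (.leaf nd382) (.leaf nd894)

def ndTree493 : Tr (List ℕ) := .node ndTree491 ndTree492

def ndTree494 : Tr (List ℕ) := .node (.leaf nd254) (.leaf nd766)

def ndTree495 : Tr (List ℕ) := .node ndTree494 (.leaf nd510)

def ndTree496 : Tr (List ℕ) := .node ndTree493 ndTree495

def ndTree497 : Tr (List ℕ) := .node ndTree490 ndTree496

def ndTree498 : Tr (List ℕ) := .node ndTree483 ndTree497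

def ndTree499 : Tr (List ℕ) := .node ndTree468 ndTree498

def ndTree500 : Tr (List ℕ) := .node ndTree437 ndTree499

def ndTree501 : Tr (List ℕ) := .node ndTree375 ndTree500

def ndTree502 : Tr (List ℕ) := .node ndTree250 ndTree501

def ndTree503 : Tr (List ℕ) := .node (.leaf nd1) (.leaf nd513)

def ndTree504 : Tr (List ℕ) := .node (.leaf nd257) (.leaf nd769)

def ndTree505 : Tr (List ℕ) := .node ndTree503 ndTree504

def ndTree506 : Tr (List ℕ) := .node (.leaf nd129) (.leaf nd641)

def ndTree507 : Tr (List ℕ) := .node (.leaf nd385) (.leaf nd897)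

def ndTree508 : Tr (List ℕ) := .node ndTree506 ndTree507

def ndTree509 : Tr (List ℕ) := .node ndTree505 ndTree508

def ndTree510 : Tr (List ℕ) := .node (.leaf nd65) (.leaf nd577)

def ndTree511 : Tr (List ℕ) := .node (.leaf nd321) (.leaf nd833)

def ndTree512 : Tr (List ℕ) := .node ndTree510 ndTree511

def ndTree513 : Tr (List ℕ) := .node (.leaf nd193) (.leaf nd705)

def ndTree514 : Tr (List ℕ) := .node (.leaf nd449) (.leaf nd961)

def ndTree515 : Tr (List ℕ) := .node ndTree513 ndTree514

def ndTree516 : Tr (List ℕ) := .node ndTree512 ndTree515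

def ndTree517 : Tr (List ℕ) := .node ndTree509 ndTree516

def ndTree518 : Tr (List ℕ) := .node (.leaf nd33) (.leaf nd545)

def ndTree519 : Tr (List ℕ) := .node (.leaf nd289) (.leaf nd801)

def ndTree520 : Tr (List ℕ) := .node ndTree518 ndTree519

def ndTree521 : Tr (List ℕ) := .node (.leaf nd161) (.leaf nd673)

def ndTree522 : Tr (List ℕ) := .node (.leaf nd417) (.leaf nd929)

def ndTree523 : Tr (List ℕ) := .node ndTree521 ndTree522

def ndTree524 : Tr (List ℕ) := .node ndTree520 ndTree523

def ndTree525 : Tr (List ℕ) := .node (.leaf nd97) (.leaf nd609)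

def ndTree526 : Tr (List ℕ) := .node (.leaf nd353) (.leaf nd865)

def ndTree527 : Tr (List ℕ) := .node ndTree525 ndTree526

def ndTree528 : Tr (List ℕ) := .node (.leaf nd225) (.leaf nd737)

def ndTree529 : Tr (List ℕ) := .node (.leaf nd481) (.leaf nd993)

def ndTree530 : Tr (List ℕ) := .node ndTree528 ndTree529

def ndTree531 : Tr (List ℕ) := .node ndTree527 ndTree530

def ndTree532 : Tr (List ℕ) := .node ndTree524 ndTree531

def ndTree533 : Tr (List ℕ) := .node ndTree517 ndTree532

def ndTree534 : Tr (List ℕ) := .node (.leaf nd17) (.leaf nd529)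

def ndTree535 : Tr (List ℕ) := .node (.leaf nd273) (.leaf nd785)

def ndTree536 : Tr (List ℕ) := .node ndTree534 ndTree535

def ndTree537 : Tr (List ℕ) := .node (.leaf nd145) (.leaf nd657)

def ndTree538 : Tr (List ℕ) := .node (.leaf nd401) (.leaf nd913)

def ndTree539 : Tr (List ℕ) := .node ndTree537 ndTree538

def ndTree540 : Tr (List ℕ) := .node ndTree536 ndTree539

def ndTree541 : Tr (List ℕ) := .node (.leaf nd81) (.leaf nd593)

def ndTree542 : Tr (List ℕ) := .node (.leaf nd337) (.leaf nd849)

def ndTree543 : Tr (List ℕ) := .node ndTree541 ndTree542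

def ndTree544 : Tr (List ℕ) := .node (.leaf nd209) (.leaf nd721)

def ndTree545 : Tr (List ℕ) := .node (.leaf nd465) (.leaf nd977)

def ndTree546 : Tr (List ℕ) := .node ndTree544 ndTree545

def ndTree547 : Tr (List ℕ) := .node ndTree543 ndTree546

def ndTree548 : Tr (List ℕ) := .node ndTree540 ndTree547

def ndTree549 : Tr (List ℕ) := .node (.leaf nd49) (.leaf nd561)

def ndTree550 : Tr (List ℕ) := .node (.leaf nd305) (.leaf nd817)

def ndTree551 : Tr (List ℕ) := .node ndTree549 ndTree550

def ndTree552 : Tr (List ℕ) := .node (.leaf nd177) (.leaf nd689)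

def ndTree553 : Tr (List ℕ) := .node (.leaf nd433) (.leaf nd945)

def ndTree554 : Tr (List ℕ) := .node ndTree552 ndTree553

def ndTree555 : Tr (List ℕ) := .node ndTree551 ndTree554

def ndTree556 : Tr (List ℕ) := .node (.leaf nd113) (.leaf nd625)

def ndTree557 : Tr (List ℕ) := .node (.leaf nd369) (.leaf nd881)

def ndTree558 : Tr (List ℕ) := .node ndTree556 ndTree557

def ndTree559 : Tr (List ℕ) := .node (.leaf nd241) (.leaf nd753)

def ndTree560 : Tr (List ℕ) := .node ndTree559 (.leaf nd497)

def ndTree561 : Tr (List ℕ) := .node ndTree558 ndTree560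

def ndTree562 : Tr (List ℕ) := .node ndTree555 ndTree561

def ndTree563 : Tr (List ℕ) := .node ndTree548 ndTree562

def ndTree564 : Tr (List ℕ) := .node ndTree533 ndTree563

def ndTree565 : Tr (List ℕ) := .node (.leaf nd9) (.leaf nd521)

def ndTree566 : Tr (List ℕ) := .node (.leaf nd265) (.leaf nd777)

def ndTree567 : Tr (List ℕ) := .node ndTree565 ndTree566

def ndTree568 : Tr (List ℕ) := .node (.leaf nd137) (.leaf nd649)

def ndTree569 : Tr (List ℕ) := .node (.leaf nd393) (.leaf nd905)

def ndTree570 : Tr (List ℕ) := .node ndTree568 ndTree569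

def ndTree571 : Tr (List ℕ) := .node ndTree567 ndTree570

def ndTree572 : Tr (List ℕ) := .node (.leaf nd73) (.leaf nd585)

def ndTree573 : Tr (List ℕ) := .node (.leaf nd329) (.leaf nd841)

def ndTree574 : Tr (List ℕ) := .node ndTree572 ndTree573

def ndTree575 : Tr (List ℕ) := .node (.leaf nd201) (.leaf nd713)

def ndTree576 : Tr (List ℕ) := .node (.leaf nd457) (.leaf nd969)

def ndTree577 : Tr (List ℕ) := .node ndTree575 ndTree576

def ndTree578 : Tr (List ℕ) := .node ndTree574 ndTree577

def ndTree579 : Tr (List ℕ) := .node ndTree571 ndTree578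

def ndTree580 : Tr (List ℕ) := .node (.leaf nd41) (.leaf nd553)

def ndTree581 : Tr (List ℕ) := .node (.leaf nd297) (.leaf nd809)

def ndTree582 : Tr (List ℕ) := .node ndTree580 ndTree581

def ndTree583 : Tr (List ℕ) := .node (.leaf nd169) (.leaf nd681)

def ndTree584 : Tr (List ℕ) := .node (.leaf nd425) (.leaf nd937)

def ndTree585 : Tr (List ℕ) := .node ndTree583 ndTree584

def ndTree586 : Tr (List ℕ) := .node ndTree582 ndTree585

def ndTree587 : Tr (List ℕ) := .node (.leaf nd105) (.leaf nd617)

def ndTree588 : Tr (List ℕ) := .node (.leaf nd361) (.leaf nd873)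

def ndTree589 : Tr (List ℕ) := .node ndTree587 ndTree588

def ndTree590 : Tr (List ℕ) := .node (.leaf nd233) (.leaf nd745)

def ndTree591 : Tr (List ℕ) := .node (.leaf nd489) (.leaf nd1001)

def ndTree592 : Tr (List ℕ) := .node ndTree590 ndTree591

def ndTree593 : Tr (List ℕ) := .node ndTree589 ndTree592

def ndTree594 : Tr (List ℕ) := .node ndTree586 ndTree593

def ndTree595 : Tr (List ℕ) := .node ndTree579 ndTree594

def ndTree596 : Tr (List ℕ) := .node (.leaf nd25) (.leaf nd537)

def ndTree597 : Tr (List ℕ) := .node (.leaf nd281) (.leaf nd793)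

def ndTree598 : Tr (List ℕ) := .node ndTree596 ndTree597

def ndTree599 : Tr (List ℕ) := .node (.leaf nd153) (.leaf nd665)

def ndTree600 : Tr (List ℕ) := .node (.leaf nd409) (.leaf nd921)

def ndTree601 : Tr (List ℕ) := .node ndTree599 ndTree600

def ndTree602 : Tr (List ℕ) := .node ndTree598 ndTree601

def ndTree603 : Tr (List ℕ) := .node (.leaf nd89) (.leaf nd601)

def ndTree604 : Tr (List ℕ) := .node (.leaf nd345) (.leaf nd857)

def ndTree605 : Tr (List ℕ) := .node ndTree603 ndTree604

def ndTree606 : Tr (List ℕ) := .node (.leaf nd217) (.leaf nd729)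

def ndTree607 : Tr (List ℕ) := .node (.leaf nd473) (.leaf nd985)

def ndTree608 : Tr (List ℕ) := .node ndTree606 ndTree607

def ndTree609 : Tr (List ℕ) := .node ndTree605 ndTree608

def ndTree610 : Tr (List ℕ) := .node ndTree602 ndTree609

def ndTree611 : Tr (List ℕ) := .node (.leaf nd57) (.leaf nd569)

def ndTree612 : Tr (List ℕ) := .node (.leaf nd313) (.leaf nd825)

def ndTree613 : Tr (List ℕ) := .node ndTree611 ndTree612

def ndTree614 : Tr (List ℕ) := .node (.leaf nd185) (.leaf nd697)

def ndTree615 : Tr (List ℕ) := .node (.leaf nd441) (.leaf nd953)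

def ndTree616 : Tr (List ℕ) := .node ndTree614 ndTree615

def ndTree617 : Tr (List ℕ) := .node ndTree613 ndTree616

def ndTree618 : Tr (List ℕ) := .node (.leaf nd121) (.leaf nd633)

def ndTree619 : Tr (List ℕ) := .node (.leaf nd377) (.leaf nd889)

def ndTree620 : Tr (List ℕ) := .node ndTree618 ndTree619

def ndTree621 : Tr (List ℕ) := .node (.leaf nd249) (.leaf nd761)

def ndTree622 : Tr (List ℕ) := .node ndTree621 (.leaf nd505)

def ndTree623 : Tr (List ℕ) := .node ndTree620 ndTree622

def ndTree624 : Tr (List ℕ) := .node ndTree617 ndTree623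

def ndTree625 : Tr (List ℕ) := .node ndTree610 ndTree624

def ndTree626 : Tr (List ℕ) := .node ndTree595 ndTree625

def ndTree627 : Tr (List ℕ) := .node ndTree564 ndTree626

def ndTree628 : Tr (List ℕ) := .node (.leaf nd5) (.leaf nd517)

def ndTree629 : Tr (List ℕ) := .node (.leaf nd261) (.leaf nd773)

def ndTree630 : Tr (List ℕ) := .node ndTree628 ndTree629

def ndTree631 : Tr (List ℕ) := .node (.leaf nd133) (.leaf nd645)

def ndTree632 : Tr (List ℕ) := .node (.leaf nd389) (.leaf nd901)

def ndTree633 : Tr (List ℕ) := .node ndTree631 ndTree632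

def ndTree634 : Tr (List ℕ) := .node ndTree630 ndTree633

def ndTree635 : Tr (List ℕ) := .node (.leaf nd69) (.leaf nd581)

def ndTree636 : Tr (List ℕ) := .node (.leaf nd325) (.leaf nd837)

def ndTree637 : Tr (List ℕ) := .node ndTree635 ndTree636

def ndTree638 : Tr (List ℕ) := .node (.leaf nd197) (.leaf nd709)

def ndTree639 : Tr (List ℕ) := .node (.leaf nd453) (.leaf nd965)

def ndTree640 : Tr (List ℕ) := .node ndTree638 ndTree639

def ndTree641 : Tr (List ℕ) := .node ndTree637 ndTree640

def ndTree642 : Tr (List ℕ) := .node ndTree634 ndTree641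

def ndTree643 : Tr (List ℕ) := .node (.leaf nd37) (.leaf nd549)

def ndTree644 : Tr (List ℕ) := .node (.leaf nd293) (.leaf nd805)

def ndTree645 : Tr (List ℕ) := .node ndTree643 ndTree644

def ndTree646 : Tr (List ℕ) := .node (.leaf nd165) (.leaf nd677)

def ndTree647 : Tr (List ℕ) := .node (.leaf nd421) (.leaf nd933)

def ndTree648 : Tr (List ℕ) := .node ndTree646 ndTree647

def ndTree649 : Tr (List ℕ) := .node ndTree645 ndTree648

def ndTree650 : Tr (List ℕ) := .node (.leaf nd101) (.leaf nd613)

def ndTree651 : Tr (List ℕ) := .node (.leaf nd357) (.leaf nd869)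

def ndTree652 : Tr (List ℕ) := .node ndTree650 ndTree651

def ndTree653 : Tr (List ℕ) := .node (.leaf nd229) (.leaf nd741)

def ndTree654 : Tr (List ℕ) := .node (.leaf nd485) (.leaf nd997)

def ndTree655 : Tr (List ℕ) := .node ndTree653 ndTree654

def ndTree656 : Tr (List ℕ) := .node ndTree652 ndTree655

def ndTree657 : Tr (List ℕ) := .node ndTree649 ndTree656

def ndTree658 : Tr (List ℕ) := .node ndTree642 ndTree657

def ndTree659 : Tr (List ℕ) := .node (.leaf nd21) (.leaf nd533)

def ndTree660 : Tr (List ℕ) := .node (.leaf nd277) (.leaf nd789)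

def ndTree661 : Tr (List ℕ) := .node ndTree659 ndTree660

def ndTree662 : Tr (List ℕ) := .node (.leaf nd149) (.leaf nd661)

def ndTree663 : Tr (List ℕ) := .node (.leaf nd405) (.leaf nd917)

def ndTree664 : Tr (List ℕ) := .node ndTree662 ndTree663

def ndTree665 : Tr (List ℕ) := .node ndTree661 ndTree664

def ndTree666 : Tr (List ℕ) := .node (.leaf nd85) (.leaf nd597)

def ndTree667 : Tr (List ℕ) := .node (.leaf nd341) (.leaf nd853)

def ndTree668 : Tr (List ℕ) := .node ndTree666 ndTree667

def ndTree669 : Tr (List ℕ) := .node (.leaf nd213) (.leaf nd725)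

def ndTree670 : Tr (List ℕ) := .node (.leaf nd469) (.leaf nd981)

def ndTree671 : Tr (List ℕ) := .node ndTree669 ndTree670

def ndTree672 : Tr (List ℕ) := .node ndTree668 ndTree671

def ndTree673 : Tr (List ℕ) := .node ndTree665 ndTree672

def ndTree674 : Tr (List ℕ) := .node (.leaf nd53) (.leaf nd565)

def ndTree675 : Tr (List ℕ) := .node (.leaf nd309) (.leaf nd821)

def ndTree676 : Tr (List ℕ) := .node ndTree674 ndTree675

def ndTree677 : Tr (List ℕ) := .node (.leaf nd181) (.leaf nd693)

def ndTree678 : Tr (List ℕ) := .node (.leaf nd437) (.leaf nd949)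

def ndTree679 : Tr (List ℕ) := .node ndTree677 ndTree678

def ndTree680 : Tr (List ℕ) := .node ndTree676 ndTree679

def ndTree681 : Tr (List ℕ) := .node (.leaf nd117) (.leaf nd629)

def ndTree682 : Tr (List ℕ) := .node (.leaf nd373) (.leaf nd885)

def ndTree683 : Tr (List ℕ) := .node ndTree681 ndTree682

def ndTree684 : Tr (List ℕ) := .node (.leaf nd245) (.leaf nd757)

def ndTree685 : Tr (List ℕ) := .node ndTree684 (.leaf nd501)

def ndTree686 : Tr (List ℕ) := .node ndTree683 ndTree685

def ndTree687 : Tr (List ℕ) := .node ndTree680 ndTree686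

def ndTree688 : Tr (List ℕ) := .node ndTree673 ndTree687

def ndTree689 : Tr (List ℕ) := .node ndTree658 ndTree688

def ndTree690 : Tr (List ℕ) := .node (.leaf nd13) (.leaf nd525)

def ndTree691 : Tr (List ℕ) := .node (.leaf nd269) (.leaf nd781)

def ndTree692 : Tr (List ℕ) := .node ndTree690 ndTree691

def ndTree693 : Tr (List ℕ) := .node (.leaf nd141) (.leaf nd653)

def ndTree694 : Tr (List ℕ) := .node (.leaf nd397) (.leaf nd909)

def ndTree695 : Tr (List ℕ) := .node ndTree693 ndTree694

def ndTree696 : Tr (List ℕ) := .node ndTree692 ndTree695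

def ndTree697 : Tr (List ℕ) := .node (.leaf nd77) (.leaf nd589)

def ndTree698 : Tr (List ℕ) := .node (.leaf nd333) (.leaf nd845)

def ndTree699 : Tr (List ℕ) := .node ndTree697 ndTree698

def ndTree700 : Tr (List ℕ) := .node (.leaf nd205) (.leaf nd717)

def ndTree701 : Tr (List ℕ) := .node (.leaf nd461) (.leaf nd973)

def ndTree702 : Tr (List ℕ) := .node ndTree700 ndTree701

def ndTree703 : Tr (List ℕ) := .node ndTree699 ndTree702

def ndTree704 : Tr (List ℕ) := .node ndTree696 ndTree703

def ndTree705 : Tr (List ℕ) := .node (.leaf nd45) (.leaf nd557)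

def ndTree706 : Tr (List ℕ) := .node (.leaf nd301) (.leaf nd813)

def ndTree707 : Tr (List ℕ) := .node ndTree705 ndTree706

def ndTree708 : Tr (List ℕ) := .node (.leaf nd173) (.leaf nd685)

def ndTree709 : Tr (List ℕ) := .node (.leaf nd429) (.leaf nd941)

def ndTree710 : Tr (List ℕ) := .node ndTree708 ndTree709

def ndTree711 : Tr (List ℕ) := .node ndTree707 ndTree710

def ndTree712 : Tr (List ℕ) := .node (.leaf nd109) (.leaf nd621)

def ndTree713 : Tr (List ℕ) := .node (.leaf nd365) (.leaf nd877)

def ndTree714 : Tr (List ℕ) := .node ndTree712 ndTree713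

def ndTree715 : Tr (List ℕ) := .node (.leaf nd237) (.leaf nd749)

def ndTree716 : Tr (List ℕ) := .node (.leaf nd493) (.leaf nd1005)

def ndTree717 : Tr (List ℕ) := .node ndTree715 ndTree716

def ndTree718 : Tr (List ℕ) := .node ndTree714 ndTree717

def ndTree719 : Tr (List ℕ) := .node ndTree711 ndTree718

def ndTree720 : Tr (List ℕ) := .node ndTree704 ndTree719

def ndTree721 : Tr (List ℕ) := .node (.leaf nd29) (.leaf nd541)

def ndTree722 : Tr (List ℕ) := .node (.leaf nd285) (.leaf nd797)

def ndTree723 : Tr (List ℕ) := .node ndTree721 ndTree722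

def ndTree724 : Tr (List ℕ) := .node (.leaf nd157) (.leaf nd669)

def ndTree725 : Tr (List ℕ) := .node (.leaf nd413) (.leaf nd925)

def ndTree726 : Tr (List ℕ) := .node ndTree724 ndTree725

def ndTree727 : Tr (List ℕ) := .node ndTree723 ndTree726

def ndTree728 : Tr (List ℕ) := .node (.leaf nd93) (.leaf nd605)

def ndTree729 : Tr (List ℕ) := .node (.leaf nd349) (.leaf nd861)

def ndTree730 : Tr (List ℕ) := .node ndTree728 ndTree729

def ndTree731 : Tr (List ℕ) := .node (.leaf nd221) (.leaf nd733)

def ndTree732 : Tr (List ℕ) := .node (.leaf nd477) (.leaf nd989)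

def ndTree733 : Tr (List ℕ) := .node ndTree731 ndTree732

def ndTree734 : Tr (List ℕ) := .node ndTree730 ndTree733

def ndTree735 : Tr (List ℕ) := .node ndTree727 ndTree734

def ndTree736 : Tr (List ℕ) := .node (.leaf nd61) (.leaf nd573)

def ndTree737 : Tr (List ℕ) := .node (.leaf nd317) (.leaf nd829)

def ndTree738 : Tr (List ℕ) := .node ndTree736 ndTree737

def ndTree739 : Tr (List ℕ) := .node (.leaf nd189) (.leaf nd701)

def ndTree740 : Tr (List ℕ) := .node (.leaf nd445) (.leaf nd957)

def ndTree741 : Tr (List ℕ) := .node ndTree739 ndTree740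

def ndTree742 : Tr (List ℕ) := .node ndTree738 ndTree741

def ndTree743 : Tr (List ℕ) := .node (.leaf nd125) (.leaf nd637)

def ndTree744 : Tr (List ℕ) := .node (.leaf nd381) (.leaf nd893)

def ndTree745 : Tr (List ℕ) := .node ndTree743 ndTree744

def ndTree746 : Tr (List ℕ) := .node (.leaf nd253) (.leaf nd765)

def ndTree747 : Tr (List ℕ) := .node ndTree746 (.leaf nd509)

def ndTree748 : Tr (List ℕ) := .node ndTree745 ndTree747

def ndTree749 : Tr (List ℕ) := .node ndTree742 ndTree748

def ndTree750 : Tr (List ℕ) := .node ndTree735 ndTree749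

def ndTree751 : Tr (List ℕ) := .node ndTree720 ndTree750

def ndTree752 : Tr (List ℕ) := .node ndTree689 ndTree751

def ndTree753 : Tr (List ℕ) := .node ndTree627 ndTree752

def ndTree754 : Tr (List ℕ) := .node (.leaf nd3) (.leaf nd515)

def ndTree755 : Tr (List ℕ) := .node (.leaf nd259) (.leaf nd771)

def ndTree756 : Tr (List ℕ) := .node ndTree754 ndTree755

def ndTree757 : Tr (List ℕ) := .node (.leaf nd131) (.leaf nd643)

def ndTree758 : Tr (List ℕ) := .node (.leaf nd387) (.leaf nd899)

def ndTree759 : Tr (List ℕ) := .node ndTree757 ndTree758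

def ndTree760 : Tr (List ℕ) := .node ndTree756 ndTree759

def ndTree761 : Tr (List ℕ) := .node (.leaf nd67) (.leaf nd579)

def ndTree762 : Tr (List ℕ) := .node (.leaf nd323) (.leaf nd835)

def ndTree763 : Tr (List ℕ) := .node ndTree761 ndTree762

def ndTree764 : Tr (List ℕ) := .node (.leaf nd195) (.leaf nd707)

def ndTree765 : Tr (List ℕ) := .node (.leaf nd451) (.leaf nd963)

def ndTree766 : Tr (List ℕ) := .node ndTree764 ndTree765

def ndTree767 : Tr (List ℕ) := .node ndTree763 ndTree766

def ndTree768 : Tr (List ℕ) := .node ndTree760 ndTree767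

def ndTree769 : Tr (List ℕ) := .node (.leaf nd35) (.leaf nd547)

def ndTree770 : Tr (List ℕ) := .node (.leaf nd291) (.leaf nd803)

def ndTree771 : Tr (List ℕ) := .node ndTree769 ndTree770

def ndTree772 : Tr (List ℕ) := .node (.leaf nd163) (.leaf nd675)

def ndTree773 : Tr (List ℕ) := .node (.leaf nd419) (.leaf nd931)

def ndTree774 : Tr (List ℕ) := .node ndTree772 ndTree773

def ndTree775 : Tr (List ℕ) := .node ndTree771 ndTree774

def ndTree776 : Tr (List ℕ) := .node (.leaf nd99) (.leaf nd611)

def ndTree777 : Tr (List ℕ) := .node (.leaf nd355) (.leaf nd867)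

def ndTree778 : Tr (List ℕ) := .node ndTree776 ndTree777

def ndTree779 : Tr (List ℕ) := .node (.leaf nd227) (.leaf nd739)

def ndTree780 : Tr (List ℕ) := .node (.leaf nd483) (.leaf nd995)

def ndTree781 : Tr (List ℕ) := .node ndTree779 ndTree780

def ndTree782 : Tr (List ℕ) := .node ndTree778 ndTree781

def ndTree783 : Tr (List ℕ) := .node ndTree775 ndTree782

def ndTree784 : Tr (List ℕ) := .node ndTree768 ndTree783

def ndTree785 : Tr (List ℕ) := .node (.leaf nd19) (.leaf nd531)

def ndTree786 : Tr (List ℕ) := .node (.leaf nd275) (.leaf nd787)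

def ndTree787 : Tr (List ℕ) := .node ndTree785 ndTree786

def ndTree788 : Tr (List ℕ) := .node (.leaf nd147) (.leaf nd659)

def ndTree789 : Tr (List ℕ) := .node (.leaf nd403) (.leaf nd915)

def ndTree790 : Tr (List ℕ) := .node ndTree788 ndTree789

def ndTree791 : Tr (List ℕ) := .node ndTree787 ndTree790

def ndTree792 : Tr (List ℕ) := .node (.leaf nd83) (.leaf nd595)

def ndTree793 : Tr (List ℕ) := .node (.leaf nd339) (.leaf nd851)

def ndTree794 : Tr (List ℕ) := .node ndTree792 ndTree793

def ndTree795 : Tr (List ℕ) := .node (.leaf nd211) (.leaf nd723)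

def ndTree796 : Tr (List ℕ) := .node (.leaf nd467) (.leaf nd979)

def ndTree797 : Tr (List ℕ) := .node ndTree795 ndTree796

def ndTree798 : Tr (List ℕ) := .node ndTree794 ndTree797

def ndTree799 : Tr (List ℕ) := .node ndTree791 ndTree798

def ndTree800 : Tr (List ℕ) := .node (.leaf nd51) (.leaf nd563)

def ndTree801 : Tr (List ℕ) := .node (.leaf nd307) (.leaf nd819)

def ndTree802 : Tr (List ℕ) := .node ndTree800 ndTree801

def ndTree803 : Tr (List ℕ) := .node (.leaf nd179) (.leaf nd691)

def ndTree804 : Tr (List ℕ) := .node (.leaf nd435) (.leaf nd947)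

def ndTree805 : Tr (List ℕ) := .node ndTree803 ndTree804

def ndTree806 : Tr (List ℕ) := .node ndTree802 ndTree805

def ndTree807 : Tr (List ℕ) := .node (.leaf nd115) (.leaf nd627)

def ndTree808 : Tr (List ℕ) := .node (.leaf nd371) (.leaf nd883)

def ndTree809 : Tr (List ℕ) := .node ndTree807 ndTree808

def ndTree810 : Tr (List ℕ) := .node (.leaf nd243) (.leaf nd755)

def ndTree811 : Tr (List ℕ) := .node ndTree810 (.leaf nd499)

def ndTree812 : Tr (List ℕ) := .node ndTree809 ndTree811

def ndTree813 : Tr (List ℕ) := .node ndTree806 ndTree812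

def ndTree814 : Tr (List ℕ) := .node ndTree799 ndTree813

def ndTree815 : Tr (List ℕ) := .node ndTree784 ndTree814

def ndTree816 : Tr (List ℕ) := .node (.leaf nd11) (.leaf nd523)

def ndTree817 : Tr (List ℕ) := .node (.leaf nd267) (.leaf nd779)

def ndTree818 : Tr (List ℕ) := .node ndTree816 ndTree817

def ndTree819 : Tr (List ℕ) := .node (.leaf nd139) (.leaf nd651)

def ndTree820 : Tr (List ℕ) := .node (.leaf nd395) (.leaf nd907)

def ndTree821 : Tr (List ℕ) := .node ndTree819 ndTree820

def ndTree822 : Tr (List ℕ) := .node ndTree818 ndTree821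

def ndTree823 : Tr (List ℕ) := .node (.leaf nd75) (.leaf nd587)

def ndTree824 : Tr (List ℕ) := .node (.leaf nd331) (.leaf nd843)

def ndTree825 : Tr (List ℕ) := .node ndTree823 ndTree824

def ndTree826 : Tr (List ℕ) := .node (.leaf nd203) (.leaf nd715)

def ndTree827 : Tr (List ℕ) := .node (.leaf nd459) (.leaf nd971)

def ndTree828 : Tr (List ℕ) := .node ndTree826 ndTree827

def ndTree829 : Tr (List ℕ) := .node ndTree825 ndTree828

def ndTree830 : Tr (List ℕ) := .node ndTree822 ndTree829

def ndTree831 : Tr (List ℕ) := .node (.leaf nd43) (.leaf nd555)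

def ndTree832 : Tr (List ℕ) := .node (.leaf nd299) (.leaf nd811)

def ndTree833 : Tr (List ℕ) := .node ndTree831 ndTree832

def ndTree834 : Tr (List ℕ) := .node (.leaf nd171) (.leaf nd683)

def ndTree835 : Tr (List ℕ) := .node (.leaf nd427) (.leaf nd939)

def ndTree836 : Tr (List ℕ) := .node ndTree834 ndTree835

def ndTree837 : Tr (List ℕ) := .node ndTree833 ndTree836

def ndTree838 : Tr (List ℕ) := .node (.leaf nd107) (.leaf nd619)

def ndTree839 : Tr (List ℕ) := .node (.leaf nd363) (.leaf nd875)

def ndTree840 : Tr (List ℕ) := .node ndTree838 ndTree839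

def ndTree841 : Tr (List ℕ) := .node (.leaf nd235) (.leaf nd747)

def ndTree842 : Tr (List ℕ) := .node (.leaf nd491) (.leaf nd1003)

def ndTree843 : Tr (List ℕ) := .node ndTree841 ndTree842

def ndTree844 : Tr (List ℕ) := .node ndTree840 ndTree843

def ndTree845 : Tr (List ℕ) := .node ndTree837 ndTree844

def ndTree846 : Tr (List ℕ) := .node ndTree830 ndTree845

def ndTree847 : Tr (List ℕ) := .node (.leaf nd27) (.leaf nd539)

def ndTree848 : Tr (List ℕ) := .node (.leaf nd283) (.leaf nd795)

def ndTree849 : Tr (List ℕ) := .node ndTree847 ndTree848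

def ndTree850 : Tr (List ℕ) := .node (.leaf nd155) (.leaf nd667)

def ndTree851 : Tr (List ℕ) := .node (.leaf nd411) (.leaf nd923)

def ndTree852 : Tr (List ℕ) := .node ndTree850 ndTree851

def ndTree853 : Tr (List ℕ) := .node ndTree849 ndTree852

def ndTree854 : Tr (List ℕ) := .node (.leaf nd91) (.leaf nd603)

def ndTree855 : Tr (List ℕ) := .node (.leaf nd347) (.leaf nd859)

def ndTree856 : Tr (List ℕ) := .node ndTree854 ndTree855

def ndTree857 : Tr (List ℕ) := .node (.leaf nd219) (.leaf nd731)

def ndTree858 : Tr (List ℕ) := .node (.leaf nd475) (.leaf nd987)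

def ndTree859 : Tr (List ℕ) := .node ndTree857 ndTree858

def ndTree860 : Tr (List ℕ) := .node ndTree856 ndTree859

def ndTree861 : Tr (List ℕ) := .node ndTree853 ndTree860

def ndTree862 : Tr (List ℕ) := .node (.leaf nd59) (.leaf nd571)

def ndTree863 : Tr (List ℕ) := .node (.leaf nd315) (.leaf nd827)

def ndTree864 : Tr (List ℕ) := .node ndTree862 ndTree863

def ndTree865 : Tr (List ℕ) := .node (.leaf nd187) (.leaf nd699)

def ndTree866 : Tr (List ℕ) := .node (.leaf nd443) (.leaf nd955)

def ndTree867 : Tr (List ℕ) := .node ndTree865 ndTree866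

def ndTree868 : Tr (List ℕ) := .node ndTree864 ndTree867

def ndTree869 : Tr (List ℕ) := .node (.leaf nd123) (.leaf nd635)

def ndTree870 : Tr (List ℕ) := .node (.leaf nd379) (.leaf nd891)

def ndTree871 : Tr (List ℕ) := .node ndTree869 ndTree870

def ndTree872 : Tr (List ℕ) := .node (.leaf nd251) (.leaf nd763)

def ndTree873 : Tr (List ℕ) := .node ndTree872 (.leaf nd507)

def ndTree874 : Tr (List ℕ) := .node ndTree871 ndTree873

def ndTree875 : Tr (List ℕ) := .node ndTree868 ndTree874

def ndTree876 : Tr (List ℕ) := .node ndTree861 ndTree875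

def ndTree877 : Tr (List ℕ) := .node ndTree846 ndTree876

def ndTree878 : Tr (List ℕ) := .node ndTree815 ndTree877

def ndTree879 : Tr (List ℕ) := .node (.leaf nd7) (.leaf nd519)

def ndTree880 : Tr (List ℕ) := .node (.leaf nd263) (.leaf nd775)

def ndTree881 : Tr (List ℕ) := .node ndTree879 ndTree880

def ndTree882 : Tr (List ℕ) := .node (.leaf nd135) (.leaf nd647)

def ndTree883 : Tr (List ℕ) := .node (.leaf nd391) (.leaf nd903)

def ndTree884 : Tr (List ℕ) := .node ndTree882 ndTree883

def ndTree885 : Tr (List ℕ) := .node ndTree881 ndTree884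

def ndTree886 : Tr (List ℕ) := .node (.leaf nd71) (.leaf nd583)

def ndTree887 : Tr (List ℕ) := .node (.leaf nd327) (.leaf nd839)

def ndTree888 : Tr (List ℕ) := .node ndTree886 ndTree887

def ndTree889 : Tr (List ℕ) := .node (.leaf nd199) (.leaf nd711)

def ndTree890 : Tr (List ℕ) := .node (.leaf nd455) (.leaf nd967)

def ndTree891 : Tr (List ℕ) := .node ndTree889 ndTree890

def ndTree892 : Tr (List ℕ) := .node ndTree888 ndTree891

def ndTree893 : Tr (List ℕ) := .node ndTree885 ndTree892

def ndTree894 : Tr (List ℕ) := .node (.leaf nd39) (.leaf nd551)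

def ndTree895 : Tr (List ℕ) := .node (.leaf nd295) (.leaf nd807)

def ndTree896 : Tr (List ℕ) := .node ndTree894 ndTree895

def ndTree897 : Tr (List ℕ) := .node (.leaf nd167) (.leaf nd679)

def ndTree898 : Tr (List ℕ) := .node (.leaf nd423) (.leaf nd935)

def ndTree899 : Tr (List ℕ) := .node ndTree897 ndTree898

def ndTree900 : Tr (List ℕ) := .node ndTree896 ndTree899

def ndTree901 : Tr (List ℕ) := .node (.leaf nd103) (.leaf nd615)

def ndTree902 : Tr (List ℕ) := .node (.leaf nd359) (.leaf nd871)

def ndTree903 : Tr (List ℕ) := .node ndTree901 ndTree902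

def ndTree904 : Tr (List ℕ) := .node (.leaf nd231) (.leaf nd743)

def ndTree905 : Tr (List ℕ) := .node (.leaf nd487) (.leaf nd999)

def ndTree906 : Tr (List ℕ) := .node ndTree904 ndTree905

def ndTree907 : Tr (List ℕ) := .node ndTree903 ndTree906

def ndTree908 : Tr (List ℕ) := .node ndTree900 ndTree907

def ndTree909 : Tr (List ℕ) := .node ndTree893 ndTree908

def ndTree910 : Tr (List ℕ) := .node (.leaf nd23) (.leaf nd535)

def ndTree911 : Tr (List ℕ) := .node (.leaf nd279) (.leaf nd791)

def ndTree912 : Tr (List ℕ) := .node ndTree910 ndTree911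

def ndTree913 : Tr (List ℕ) := .node (.leaf nd151) (.leaf nd663)

def ndTree914 : Tr (List ℕ) := .node (.leaf nd407) (.leaf nd919)

def ndTree915 : Tr (List ℕ) := .node ndTree913 ndTree914

def ndTree916 : Tr (List ℕ) := .node ndTree912 ndTree915

def ndTree917 : Tr (List ℕ) := .node (.leaf nd87) (.leaf nd599)

def ndTree918 : Tr (List ℕ) := .node (.leaf nd343) (.leaf nd855)

def ndTree919 : Tr (List ℕ) := .node ndTree917 ndTree918

def ndTree920 : Tr (List ℕ) := .node (.leaf nd215) (.leaf nd727)

def ndTree921 : Tr (List ℕ) := .node (.leaf nd471) (.leaf nd983)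

def ndTree922 : Tr (List ℕ) := .node ndTree920 ndTree921

def ndTree923 : Tr (List ℕ) := .node ndTree919 ndTree922

def ndTree924 : Tr (List ℕ) := .node ndTree916 ndTree923

def ndTree925 : Tr (List ℕ) := .node (.leaf nd55) (.leaf nd567)

def ndTree926 : Tr (List ℕ) := .node (.leaf nd311) (.leaf nd823)

def ndTree927 : Tr (List ℕ) := .node ndTree925 ndTree926

def ndTree928 : Tr (List ℕ) := .node (.leaf nd183) (.leaf nd695)

def ndTree929 : Tr (List ℕ) := .node (.leaf nd439) (.leaf nd951)

def ndTree930 : Tr (List ℕ) := .node ndTree928 ndTree929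

def ndTree931 : Tr (List ℕ) := .node ndTree927 ndTree930

def ndTree932 : Tr (List ℕ) := .node (.leaf nd119) (.leaf nd631)

def ndTree933 : Tr (List ℕ) := .node (.leaf nd375) (.leaf nd887)

def ndTree934 : Tr (List ℕ) := .node ndTree932 ndTree933

def ndTree935 : Tr (List ℕ) := .node (.leaf nd247) (.leaf nd759)

def ndTree936 : Tr (List ℕ) := .node ndTree935 (.leaf nd503)

def ndTree937 : Tr (List ℕ) := .node ndTree934 ndTree936

def ndTree938 : Tr (List ℕ) := .node ndTree931 ndTree937

def ndTree939 : Tr (List ℕ) := .node ndTree924 ndTree938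

def ndTree940 : Tr (List ℕ) := .node ndTree909 ndTree939

def ndTree941 : Tr (List ℕ) := .node (.leaf nd15) (.leaf nd527)

def ndTree942 : Tr (List ℕ) := .node (.leaf nd271) (.leaf nd783)

def ndTree943 : Tr (List ℕ) := .node ndTree941 ndTree942

def ndTree944 : Tr (List ℕ) := .node (.leaf nd143) (.leaf nd655)

def ndTree945 : Tr (List ℕ) := .node (.leaf nd399) (.leaf nd911)

def ndTree946 : Tr (List ℕ) := .node ndTree944 ndTree945

def ndTree947 : Tr (List ℕ) := .node ndTree943 ndTree946

def ndTree948 : Tr (List ℕ) := .node (.leaf nd79) (.leaf nd591)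

def ndTree949 : Tr (List ℕ) := .node (.leaf nd335) (.leaf nd847)

def ndTree950 : Tr (List ℕ) := .node ndTree948 ndTree949

def ndTree951 : Tr (List ℕ) := .node (.leaf nd207) (.leaf nd719)

def ndTree952 : Tr (List ℕ) := .node (.leaf nd463) (.leaf nd975)

def ndTree953 : Tr (List ℕ) := .node ndTree951 ndTree952

def ndTree954 : Tr (List ℕ) := .node ndTree950 ndTree953

def ndTree955 : Tr (List ℕ) := .node ndTree947 ndTree954

def ndTree956 : Tr (List ℕ) := .node (.leaf nd47) (.leaf nd559)

def ndTree957 : Tr (List ℕ) := .node (.leaf nd303) (.leaf nd815)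

def ndTree958 : Tr (List ℕ) := .node ndTree956 ndTree957

def ndTree959 : Tr (List ℕ) := .node (.leaf nd175) (.leaf nd687)

def ndTree960 : Tr (List ℕ) := .node (.leaf nd431) (.leaf nd943)

def ndTree961 : Tr (List ℕ) := .node ndTree959 ndTree960

def ndTree962 : Tr (List ℕ) := .node ndTree958 ndTree961

def ndTree963 : Tr (List ℕ) := .node (.leaf nd111) (.leaf nd623)

def ndTree964 : Tr (List ℕ) := .node (.leaf nd367) (.leaf nd879)

def ndTree965 : Tr (List ℕ) := .node ndTree963 ndTree964

def ndTree966 : Tr (List ℕ) := .node (.leaf nd239) (.leaf nd751)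

def ndTree967 : Tr (List ℕ) := .node ndTree966 (.leaf nd495)

def ndTree968 : Tr (List ℕ) := .node ndTree965 ndTree967

def ndTree969 : Tr (List ℕ) := .node ndTree962 ndTree968

def ndTree970 : Tr (List ℕ) := .node ndTree955 ndTree969

def ndTree971 : Tr (List ℕ) := .node (.leaf nd31) (.leaf nd543)

def ndTree972 : Tr (List ℕ) := .node (.leaf nd287) (.leaf nd799)

def ndTree973 : Tr (List ℕ) := .node ndTree971 ndTree972

def ndTree974 : Tr (List ℕ) := .node (.leaf nd159) (.leaf nd671)

def ndTree975 : Tr (List ℕ) := .node (.leaf nd415) (.leaf nd927)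

def ndTree976 : Tr (List ℕ) := .node ndTree974 ndTree975

def ndTree977 : Tr (List ℕ) := .node ndTree973 ndTree976

def ndTree978 : Tr (List ℕ) := .node (.leaf nd95) (.leaf nd607)

def ndTree979 : Tr (List ℕ) := .node (.leaf nd351) (.leaf nd863)

def ndTree980 : Tr (List ℕ) := .node ndTree978 ndTree979

def ndTree981 : Tr (List ℕ) := .node (.leaf nd223) (.leaf nd735)

def ndTree982 : Tr (List ℕ) := .node (.leaf nd479) (.leaf nd991)

def ndTree983 : Tr (List ℕ) := .node ndTree981 ndTree982

def ndTree984 : Tr (List ℕ) := .node ndTree980 ndTree983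

def ndTree985 : Tr (List ℕ) := .node ndTree977 ndTree984

def ndTree986 : Tr (List ℕ) := .node (.leaf nd63) (.leaf nd575)

def ndTree987 : Tr (List ℕ) := .node (.leaf nd319) (.leaf nd831)

def ndTree988 : Tr (List ℕ) := .node ndTree986 ndTree987

def ndTree989 : Tr (List ℕ) := .node (.leaf nd191) (.leaf nd703)

def ndTree990 : Tr (List ℕ) := .node (.leaf nd447) (.leaf nd959)

def ndTree991 : Tr (List ℕ) := .node ndTree989 ndTree990

def ndTree992 : Tr (List ℕ) := .node ndTree988 ndTree991

def ndTree993 : Tr (List ℕ) := .node (.leaf nd127) (.leaf nd639)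

def ndTree994 : Tr (List ℕ) := .node (.leaf nd383) (.leaf nd895)

def ndTree995 : Tr (List ℕ) := .node ndTree993 ndTree994

def ndTree996 : Tr (List ℕ) := .node (.leaf nd255) (.leaf nd767)

def ndTree997 : Tr (List ℕ) := .node ndTree996 (.leaf nd511)

def ndTree998 : Tr (List ℕ) := .node ndTree995 ndTree997

def ndTree999 : Tr (List ℕ) := .node ndTree992 ndTree998

def ndTree1000 : Tr (List ℕ) := .node ndTree985 ndTree999

def ndTree1001 : Tr (List ℕ) := .node ndTree970 ndTree1000

def ndTree1002 : Tr (List ℕ) := .node ndTree940 ndTree1001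

def ndTree1003 : Tr (List ℕ) := .node ndTree878 ndTree1002

def ndTree1004 : Tr (List ℕ) := .node ndTree753 ndTree1003

def ndTree1005 : Tr (List ℕ) := .node ndTree502 ndTree1004

/-- The table of the nodes. -/
def ndTab : Tr (List ℕ) := ndTree1005

/-- The products. -/
def ndProg0 : List (ℕ × ℕ) := [(490, 490), (548, 490), (484, 291), (550, 291), (551, 291), (552, 549), (553, 553), (554, 554), (555, 555), (554, 556), (557, 172), (558, 553), (511, 499), (560, 550), (557, 561), (0, 1), (1, 563), (0, 564), (565, 1), (566, 1), (567, 4), (23, 2), (569, 569), (570, 570), (571, 571), (572, 572), (573, 573), (571, 574), (4, 575), (1, 576), (577, 568), (548, 548), (549, 579), (349, 580), (503, 581), (582, 578), (578, 578), (584, 584), (585, 585), (586, 586), (587, 587), (578, 584), (589, 585), (590, 588), (582, 591), (592, 583), (593, 593), (594, 594), (595, 595), (596, 596), (594, 597), (578, 598), (567, 568), (582, 600), (601, 601), (602, 602), (603, 603), (604, 604), (605, 605), (600, 606), (607, 599), (582, 568),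 (171, 171), (610, 610), (611, 611), (171, 610), (613, 612), (614, 614), (615, 615), (616, 616), (614, 615), (618, 617), (582, 619), (620, 609), (621, 621), (622, 622), (623, 623), (622, 623), (625, 624), (568, 626)]

/-- The products. -/
def ndProg1 : List (ℕ × ℕ) := [(627, 608), (582, 23), (3, 2), (0, 630), (1, 631), (3, 569), (633, 632), (0, 634), (582, 635), (636, 629), (637, 637), (638, 638), (639, 639), (637, 638), (641, 639), (642, 640), (23, 643), (644, 644), (645, 645), (646, 646), (644, 646), (648, 647), (649, 628), (23, 600), (582, 651), (651, 651), (653, 653), (654, 654), (655, 655), (656, 656), (582, 657), (658, 652), (659, 659), (660, 660), (661, 661), (660, 661), (663, 662), (651, 664), (600, 5), (582, 666), (582, 614), (668, 667), (669, 669), (670, 670), (671, 671), (669, 670), (673, 671), (674, 672), (666, 675), (676, 676), (677, 677), (676, 677), (679, 678), (680, 665), (680, 681), (682, 650), (566, 635), (578, 684), (582, 685), (685, 685), (687, 687), (688, 688), (689, 689), (687, 688), (691,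 689), (692, 690), (582, 693), (694, 686), (695, 695), (696, 696), (697, 697), (698, 698), (696, 699), (685, 700), (701, 701), (702, 702), (703, 703), (701, 703), (705, 704), (665, 706)]

/-- The products. -/
def ndProg2 : List (ℕ × ℕ) := [(707, 676), (708, 607), (680, 709), (710, 683), (495, 581), (712, 495), (713, 1), (713, 2), (715, 714), (716, 716), (717, 717), (718, 718), (719, 719), (717, 720), (1, 721), (722, 722), (723, 723), (724, 724), (722, 723), (726, 724), (727, 725), (576, 1), (575, 576), (730, 575), (731, 729), (635, 732), (713, 733), (733, 733), (735, 735), (736, 736), (737, 737), (733, 736), (739, 737), (740, 738), (713, 741), (742, 734), (743, 743), (744, 744), (745, 745), (743, 744), (747, 746), (733, 748), (749, 749), (750, 750), (751, 751), (749, 751), (753, 752), (754, 728), (722, 755), (713, 635), (713, 23), (758, 757), (759, 759), (760, 760), (761, 761), (759, 760), (763, 762), (635, 764), (765, 765), (766, 766), (767, 767), (765, 766), (769, 767), (770, 768), (771, 756), (713, 732), (732,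 732), (713, 774), (775, 773), (776, 776), (777, 777), (778, 778), (776, 777), (780, 778), (781, 779), (732, 782), (783, 783), (784, 784), (785, 785), (783, 784)]

/-- The products. -/
def ndProg3 : List (ℕ × ℕ) := [(787, 786), (0, 3), (713, 789), (790, 790), (791, 791), (789, 792), (783, 793), (794, 788), (634, 21), (635, 796), (713, 797), (797, 797), (797, 799), (713, 800), (801, 798), (802, 802), (803, 803), (804, 804), (802, 803), (806, 804), (807, 805), (797, 808), (771, 809), (810, 783), (811, 795), (812, 772), (495, 711), (814, 813), (815, 711), (816, 495), (817, 813), (818, 711), (559, 819), (820, 559), (821, 560), (822, 560), (823, 819), (824, 559), (825, 560), (826, 559), (827, 819), (828, 559), (829, 560), (830, 560), (831, 559), (832, 560), (819, 559), (834, 560), (835, 819), (836, 559), (837, 560), (838, 559), (839, 819), (840, 559), (841, 559), (842, 560), (486, 172), (844, 172), (845, 172), (846, 172), (847, 172), (848, 172), (849, 291), (511, 850), (845, 291), (852, 172), (519, 581), (854, 499),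 (855, 499), (856, 499), (857, 499), (858, 853), (21, 4), (860, 3), (861, 1), (862, 789), (863, 4), (0, 732), (0, 774), (866, 865)]

/-- The products. -/
def ndProg4 : List (ℕ × ℕ) := [(867, 867), (868, 868), (869, 869), (867, 868), (871, 869), (872, 870), (732, 873), (874, 874), (875, 875), (876, 876), (874, 875), (878, 877), (731, 635), (0, 880), (880, 880), (882, 882), (883, 883), (880, 883), (885, 884), (0, 886), (887, 881), (888, 888), (889, 889), (890, 890), (889, 890), (892, 891), (880, 893), (894, 879), (789, 895), (3, 21), (897, 21), (898, 789), (29, 21), (635, 900), (901, 899), (0, 902), (902, 902), (904, 904), (905, 905), (906, 906), (902, 905), (908, 907), (0, 909), (910, 903), (911, 911), (912, 912), (913, 913), (914, 914), (912, 915), (902, 916), (789, 917), (918, 896), (0, 576), (576, 576), (921, 921), (922, 922), (576, 921), (924, 923), (0, 925), (926, 920), (927, 927), (928, 928), (929, 929), (930, 930), (928, 931), (576, 932), (894, 894), (934, 934), (935, 935), (936, 936), (894, 934), (938, 936),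 (939, 937), (635, 733), (0, 941), (941, 941), (943, 943), (944, 944), (945, 945), (941, 943)]

/-- The products. -/
def ndProg5 : List (ℕ × ℕ) := [(947, 945), (948, 946), (0, 949), (950, 942), (951, 951), (952, 952), (953, 953), (954, 954), (952, 955), (941, 956), (879, 957), (958, 940), (959, 933), (933, 940), (961, 960), (962, 919), (917, 917), (964, 964), (917, 964), (966, 965), (933, 933), (968, 968), (969, 969), (933, 970), (971, 967), (874, 972), (957, 973), (894, 967), (933, 975), (976, 974), (971, 940), (957, 957), (979, 979), (980, 980), (957, 980), (982, 981), (874, 789), (984, 894), (985, 983), (986, 978), (987, 977), (988, 0), (989, 989), (990, 963), (991, 864), (864, 864), (993, 993), (994, 994), (995, 995), (864, 994), (997, 996), (991, 998), (999, 992), (1000, 1000), (864, 1001), (991, 862), (862, 862), (1004, 1004), (862, 1004), (1006, 1005), (991, 1007), (1008, 1003), (1009, 1009), (1010, 1010), (1009, 1011), (862, 1012), (1013, 1002), (1, 564), (864, 564), (1016, 1015), (991, 1017), (1017, 1017),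 (1019, 1019), (1020, 1020), (1021, 1021), (1022, 1022), (1020, 1023), (991, 1024), (1025, 1018), (1026, 1026)]

/-- The products. -/
def ndProg6 : List (ℕ × ℕ) := [(1027, 1027), (1026, 1028), (1017, 1029), (1030, 1014), (1031, 1002), (1030, 1032), (863, 565), (991, 1034), (1034, 1034), (1036, 1036), (1037, 1037), (1038, 1038), (1036, 1037), (1040, 1039), (991, 1041), (1042, 1035), (1043, 1043), (1044, 1044), (1043, 1045), (1034, 1046), (1002, 1047), (1048, 1033), (1002, 1032), (1050, 1049), (1047, 1048), (1052, 1051), (1053, 1002), (1049, 1002), (1055, 1054), (1002, 1014), (1057, 1056), (1030, 1058), (1052, 1002), (1060, 1059), (1048, 1056), (1014, 1013), (1030, 1063), (1002, 1064), (1065, 1062), (1066, 1061), (631, 789), (0, 1068), (833, 833), (1070, 1070), (833, 1070), (1072, 1071), (1069, 1069), (1074, 1074), (1075, 1075), (1076, 1076), (1074, 1075), (1078, 1077), (1079, 1073), (1080, 1069), (1081, 991), (1082, 1082), (1083, 1083), (1083, 1084), (1069, 1085), (1086, 1067), (1087, 1087), (1088, 1088), (1089,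 1089), (1090, 1090), (1091, 1091), (1088, 1090), (1093, 1092), (29, 29), (1095, 4), (1096, 78), (29, 1095), (1015, 1098), (78, 1098), (4, 1100), (1097, 1101), (1102, 789), (1103, 1099), (1104, 1097), (789, 4), (1106, 1105)]

/-- The products. -/
def ndProg7 : List (ℕ × ℕ) := [(1106, 65), (78, 1108), (789, 1109), (1110, 1096), (1111, 1100), (1106, 1110), (1113, 1112), (1103, 0), (1115, 1114), (1116, 1107), (1112, 1114), (0, 1106), (1119, 1118), (1120, 1117), (1097, 1105), (1105, 1122), (1123, 1121), (564, 1), (3, 1125), (1126, 632), (1126, 1069), (0, 1128), (1128, 1128), (1130, 1130), (1131, 1131), (1132, 1132), (1133, 1133), (0, 1134), (1135, 1129), (1136, 1136), (1137, 1137), (1138, 1138), (1139, 1139), (1128, 1140), (1125, 632), (1128, 1142), (0, 1143), (1143, 1143), (1145, 1145), (1146, 1146), (1145, 1146), (1148, 1147), (0, 1149), (1150, 1144), (1151, 1151), (1152, 1152), (1153, 1153), (1154, 1154), (1143, 1155), (1156, 1156), (1157, 1157), (1158, 1158), (1156, 1158), (1160, 1159), (1161, 1141), (0, 569),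 (0, 575), (1164, 1163), (1165, 1165), (1166, 1166), (1167, 1167), (1168, 1168), (569, 1169), (1170, 1170), (1171, 1171), (1172, 1172), (1170, 1171), (1174, 1173), (1175, 917), (1175, 1176), (1177, 1162), (1141, 1141), (1179, 1179), (1180, 1180), (1181, 1181), (1141, 1179), (1183, 1180), (1184, 1182), (1185, 1156), (1186, 967)]

/-- The products. -/
def ndProg8 : List (ℕ × ℕ) := [(1187, 1178), (990, 1188), (1189, 1188), (1190, 1188), (1191, 963), (1192, 1124), (1124, 1124), (1194, 1194), (1195, 1195), (1196, 1196), (1197, 1197), (1195, 1198), (1192, 1199), (1200, 1193), (1201, 1201), (1202, 1202), (1201, 1203), (1124, 1204), (1205, 1205), (1206, 1206), (1207, 1207), (1208, 1208), (1205, 1206), (1210, 1207), (1211, 1209), (1111, 10), (1213, 1111), (1099, 1214), (1103, 1215), (1122, 1100), (1217, 1107), (1218, 1107), (1219, 1216), (1192, 1220), (1220, 1220), (1222, 1222), (1223, 1223), (1224, 1224), (1225, 1225), (1223, 1226), (1192, 1227), (1228, 1221), (1229, 1229), (1230, 1230), (1229, 1231), (1220, 1232), (1233,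 1233), (1234, 1234), (1235, 1235), (1236, 1236), (1237, 1237), (1233, 1236), (1239, 1238), (1240, 1212), (1205, 1241), (1240, 1242), (1192, 1122), (1122, 1122), (1245, 1245), (1246, 1246), (1247, 1247), (1122, 1246), (1249, 1247), (1250, 1248), (1192, 1251), (1252, 1244), (1253, 1253), (1254, 1254), (1253, 1255), (1122, 1256), (1233, 1257), (1192, 1102), (1102, 1102), (1260, 1260), (1261, 1261), (1262, 1262), (1102, 1261), (1264, 1263), (1192, 1265), (1266, 1259)]

/-- The products. -/
def ndProg9 : List (ℕ × ℕ) := [(1267, 1267), (1268, 1268), (1267, 1269), (1102, 1270), (1271, 1271), (1272, 1272), (1273, 1273), (1271, 1273), (1275, 1274), (1276, 1258), (1192, 1101), (1101, 1101), (1279, 1279), (1280, 1280), (1281, 1281), (1282, 1282), (1279, 1281), (1284, 1283), (1192, 1285), (1286, 1278), (1287, 1287), (1101, 1288), (1289, 1289), (1290, 1290), (1291, 1291), (1292, 1292), (1293, 1293), (1289, 1290), (1295, 1291), (1296, 1294), (1297, 1277), (1298, 1243), (1118, 1114), (1300, 1123), (1220, 1114), (1219, 1302),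 (789, 1107), (1304, 1115), (1305, 1303), (1107, 1306), (1114, 1302), (1308, 1307), (1309, 1301), (1192, 1310), (1310, 1310), (1312, 1312), (1313, 1313), (1314, 1314), (1315, 1315), (1313, 1316), (1192, 1317), (1318, 1311), (1319, 1319), (1310, 1320), (1321, 1321), (1322, 1322), (1323, 1323), (1321, 1323), (1325, 1324), (1326, 1297), (1327, 1276), (1192, 1117), (1117, 1117), (1330, 1330), (1331, 1331), (1332, 1332), (1117, 1330), (1334, 1331), (1335, 1333), (1192, 1336), (1337, 1329), (1338, 1338), (1339, 1339), (1338, 1340), (1117, 1341), (1342, 1342), (1343, 1343), (1344, 1344), (1342, 1343), (1346, 1345)]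

/-- The products. -/
def ndProg10 : List (ℕ × ℕ) := [(1192, 1302), (1302, 1302), (1349, 1349), (1350, 1350), (1351, 1351), (1302, 1350), (1353, 1352), (1192, 1354), (1355, 1348), (1356, 1356), (1357, 1357), (1356, 1358), (1302, 1359), (1360, 1360), (1361, 1361), (1362, 1362), (1363, 1363), (1364, 1364), (1360, 1361), (1366, 1363), (1367, 1365), (1368, 1297), (1369, 1347), (1370, 1328), (1371, 1299), (1087, 1372), (1373, 1094), (16, 1), (0, 1375), (16, 4), (1377, 1376), (1377, 16), (1379, 0), (0, 1380), (1378, 0), (1382, 1381), (1383, 1378), (565, 1378), (1385, 1384), (565, 1380), (1387, 1386), (989, 1188), (1389, 1372), (1390, 963), (1391, 1388), (1388, 1388), (1393, 1393), (1388, 1394), (1391, 1395), (1396, 1392), (1397, 1397), (1398, 1398), (1399, 1399), (1400, 1400), (1388, 1401), (0, 1377), (614, 1380), (1404, 1403), (1391, 1405), (1405, 1405), (1407, 1407), (1405, 1407), (1409, 1408), (1391, 1410), (1411, 1406), (1412, 1412), (1413, 1413), (1412, 1414), (1405, 1415), (1416, 1402), (1402, 1402), (1418, 1418),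 (1419, 1419), (1402, 1419), (1421, 1420), (1416, 1416), (1423, 1423), (1424, 1424), (1425, 1425), (1416, 1423)]

/-- The products. -/
def ndProg11 : List (ℕ × ℕ) := [(1427, 1426), (1428, 1422), (1429, 1417), (1384, 1405), (1405, 1431), (1391, 1432), (1432, 1432), (1434, 1434), (1435, 1435), (1432, 1434), (1437, 1436), (1391, 1438), (1439, 1433), (1440, 1440), (1441, 1441), (1442, 1442), (1443, 1443), (1441, 1444), (1432, 1445), (3, 564), (1447, 614), (1448, 564), (1405, 1449), (1391, 1450), (1450, 1450), (1452, 1452), (1453, 1453), (1454, 1454), (1455, 1455), (1450, 1452), (1457, 1453), (1458, 1456), (1391, 1459), (1460, 1451), (1461, 1461), (1462, 1462), (1463, 1463), (1464, 1464), (1450, 1465), (1466, 1466), (1467, 1467), (1466, 1467), (1469, 1468), (1391, 1403), (1403, 1403), (1472, 1472), (1473, 1473), (1403, 1472), (1475, 1474), (1391, 1476), (1477, 1471), (1478, 1478), (1479, 1479), (1480, 1480), (1481, 1481), (1478, 1480), (1483, 1482), (1403, 1484), (0, 1404), (1383, 1486), (1391, 1487), (1487, 1487),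 (1489, 1489), (1490, 1490), (1487, 1490), (1492, 1491), (1391, 1493), (1494, 1488), (1495, 1495), (1496, 1496), (1497, 1497), (1496, 1497), (1499, 1498), (1487, 1500), (1391, 1486), (1486, 1486), (1503, 1503), (1504, 1504), (1505, 1505), (1504, 1506)]

/-- The products. -/
def ndProg12 : List (ℕ × ℕ) := [(1391, 1507), (1508, 1502), (1509, 1509), (1510, 1510), (1511, 1511), (1509, 1510), (1513, 1511), (1514, 1512), (1486, 1515), (1516, 1516), (1517, 1517), (1516, 1518), (1519, 1501), (1520, 1485), (1521, 1470), (1522, 1446), (1487, 1382), (1391, 1524), (1524, 1524), (1526, 1526), (1527, 1527), (1524, 1526), (1529, 1528), (1391, 1530), (1531, 1525), (1532, 1532), (1533, 1533), (1534, 1534), (1535, 1535), (1532, 1534), (1537, 1536), (1524, 1538), (1539, 1539), (1540, 1540), (1541, 1541), (1539, 1542), (1446, 1446), (1544, 1544), (1446, 1544), (1546, 1545), (1470, 1428), (1548, 1547), (1549, 1543), (1550, 1523), (1551, 1430), (1087, 1552), (1553, 1094)]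

end Cfsg.Lib.J4NonLocal.MTwentyTwo
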